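import Cfsg.Agent.H17.LT.WKill
import Cfsg.Agent.H252.LT.Asm

/-!
# S2927: the assembly with `Fams DeadR` (no `ExistsFib`)
-/

set_option autoImplicit false

universe u

open Subgroup Cfsg
open Cfsg.Agent.H229 Cfsg.Agent.H252.LT

namespace Cfsg.Agent.H17.LT

theorem DeadR.mono {R R' : (K : Type u) → [Group K] → Prop} (h : DeadR.{u} R')
    (hR : ∀ (K : Type u) [Group K] [Finite K] [IsSimpleGroup K], R K → R' K) : DeadR.{u} R := by
  intro G _ _ S Q M K t hK
  have := t.simple
  exact h t (hR _ hK)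

theorem cx_false (hcl : ∀ (L : Type u) [Group L] [Finite L] [IsSimpleGroup L], IsKnownSimple' L)
    (A : Fams.{u} DeadL.{u}) (B : Fams.{u} DeadR.{u}) {G : Type u} [Group G] [Finite G]
    {S : Sylow 2 G} {Q M : Subgroup G} (c : Cx S Q M) : False := by
  rcases red c with ⟨K, hK, hs, hna, hC⟩ | ⟨K, t⟩
  · exact false_of_one hcl A c K hK hs hna hC
  · have := t.simple
    exact (B.elim (K := ↥K) fun _ h hR => h t hR).false (hcl ↥K) t.nab

end Cfsg.Agent.H17.LT
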