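import Mathlib
import Cfsg.Prelude.Def_Local
import Cfsg.Agent.Lib.Cores
import Cfsg.Agent.SignalizersComponents.Components
import Cfsg.Agent.SignalizersComponents.ComponentExists
import Cfsg.Agent.TwoFusion.FStarControl

/-!
# Components of a group with trivial Fitting subgroup
-/

set_option autoImplicit false
set_option linter.unusedSectionVars false

namespace Cfsg.Agent.H17.LT

open Subgroup Cfsg
open Cfsg.Agent.SignalizersComponents.Components

universe u

section comps

variable {G : Type u} [Group G] [Finite G]

/-- the components as a family -/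
abbrev Cmp (G : Type u) [Group G] := {K : Subgroup G // IsComponent K}

theorem cmp_comm : Pairwise fun i j : Cmp G => ∀ x y : G, x ∈ i.1 → y ∈ j.1 → Commute x y := by
  intro i j hij x y hx hy
  have h := component_le_centralizer_of_ne i.2 j.2 (fun h => hij (Subtype.ext h))
  exact (mem_centralizer_iff.1 (h hx) y hy).symm

instance : Finite (Cmp G) := inferInstance

noncomputable instance : Fintype (Cmp G) := Fintype.ofFinite _

/-- the product map -/
noncomputable def pc (G : Type u) [Group G] [Finite G] : (∀ i : Cmp G, i.1) →* G :=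
  Subgroup.noncommPiCoprod (H := fun i : Cmp G => i.1) cmp_comm

theorem pc_single [DecidableEq (Cmp G)] (i : Cmp G) (y : i.1) : pc G (Pi.mulSingle i y) = y := by
  have := Subgroup.noncommPiCoprod_mulSingle (H := fun i : Cmp G => i.1) (hcomm := cmp_comm) i y
  unfold pc
  convert this using 2

theorem layer_eq : layer G = ⨆ i : Cmp G, i.1 := by
  rw [layer, sSup_eq_iSup']
  rfl

theorem pc_range : (pc G).range = layer G := by
  rw [layer_eq]
  exact Subgroup.noncommPiCoprod_range (H := fun i : Cmp G => i.1) (hcomm := cmp_comm)

/-- an element commuting with all components except `K` -/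
theorem pc_decomp (z : ∀ i : Cmp G, i.1) (i : Cmp G) :
    ∃ c ∈ centralizer (i.1 : Set G), pc G z = (z i : G) * c := by
  classical
  refine ⟨pc G ((Pi.mulSingle i (z i))⁻¹ * z), ?_, ?_⟩
  · rw [mem_centralizer_iff]
    intro x hx
    have h1 : Commute (Pi.mulSingle i (⟨x, hx⟩ : i.1) : ∀ i : Cmp G, i.1) ((Pi.mulSingle i (z i))⁻¹ * z) := by
      ext j
      by_cases h : j = i
      · subst h
        simp
      · simp [Pi.mulSingle_eq_of_ne h]
    have h2 := h1.map (pc G)
    rw [pc_single] at h2
    exact h2.eq
  · rw [map_mul, map_inv, pc_single]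
    group

/-- elements centralizing all components centralize the layer -/
theorem mem_centralizer_layer {g : G} (h : ∀ i : Cmp G, ∀ x ∈ i.1, x * g = g * x) :
    g ∈ centralizer (layer G : Set G) := by
  have h1 : layer G ≤ centralizer ({g} : Set G) := by
    rw [layer_eq]
    refine iSup_le fun i x hx => ?_
    rw [mem_centralizer_singleton_iff]
    exact h i x hx
  rw [mem_centralizer_iff]
  intro x hx
  exact mem_centralizer_singleton_iff.1 (h1 hx)

end comps

section rad

variable {G : Type u} [Group G] [Finite G]

/-- If the Fitting subgroup is trivial, the centralizer of the layer is trivial. -/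
theorem centralizer_layer_eq (h1 : fittingSubgroup G = ⊥) : centralizer (layer G : Set G) = ⊥ := by
  have h2 := Cfsg.Agent.TwoFusion.FStarControl.centralizer_genFitting_le_fitting (H := G)
  rw [h1] at h2
  have h3 : generalizedFittingSubgroup G = layer G := by
    show layer G ⊔ fittingSubgroup G = layer G
    rw [h1, sup_bot_eq]
  rw [h3] at h2
  exact le_bot_iff.1 h2

theorem component_center (hc : centralizer (layer G : Set G) = ⊥) {K : Subgroup G} (hK : IsComponent K) :
    center K = ⊥ := by
  rw [eq_bot_iff]
  intro x hx
  have h1 : (x : G) ∈ centralizer (layer G : Set G) := by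
    apply mem_centralizer_layer
    intro i y hy
    by_cases hi : i.1 = K
    · have h2 := mem_center_iff.1 hx ⟨y, hi ▸ hy⟩
      exact congrArg Subtype.val h2
    · exact mem_centralizer_iff.1 (component_le_centralizer_of_ne hK i.2 (fun h => hi h.symm) x.2) y hy
  rw [hc, mem_bot] at h1
  rw [mem_bot]
  exact Subtype.ext h1

theorem component_simple (hc : centralizer (layer G : Set G) = ⊥) {K : Subgroup G} (hK : IsComponent K) :
    IsSimpleGroup K := by
  have h1 := component_center hc hK
  have h2 := hK.2.2
  have e : K ≃* (K ⧸ center K) := (QuotientGroup.quotientBot (G := K)).symm.trans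
    (QuotientGroup.quotientMulEquivOfEq h1.symm)
  have : Nontrivial K := e.toEquiv.nontrivial
  exact IsSimpleGroup.isSimpleGroup_of_surjective e.symm.toMonoidHom e.symm.surjective

theorem component_not_comm {K : Subgroup G} (hK : IsComponent K) : ¬ IsMulCommutative K := by
  intro h
  refine quasisimple_not_isSolvable hK.2 (Group.isSolvable_of_comm fun a b => ?_)
  exact h.1.1 a b

theorem component_inf_centralizer (hc : centralizer (layer G : Set G) = ⊥) {K : Subgroup G} (hK : IsComponent K) :
    K ⊓ centralizer (K : Set G) = ⊥ := by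
  rw [eq_bot_iff]
  rintro x ⟨hx, hxc⟩
  have h1 : (⟨x, hx⟩ : ↥K) ∈ center ↥K := by
    rw [mem_center_iff]
    intro y
    exact Subtype.ext (mem_centralizer_iff.1 hxc y y.2)
  rw [component_center hc hK, mem_bot] at h1
  rw [mem_bot]
  exact congrArg Subtype.val h1

/-- every element of the layer is a product `k c`, `k ∈ K`, `c ∈ C(K)` -/
theorem layer_decomp {K : Subgroup G} (hK : IsComponent K) {x : G} (hx : x ∈ layer G) :
    ∃ k ∈ K, ∃ c ∈ centralizer (K : Set G), x = k * c := by
  rw [← pc_range] at hx
  obtain ⟨z, rfl⟩ := hx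
  obtain ⟨c, hc, h⟩ := pc_decomp z ⟨K, hK⟩
  exact ⟨z ⟨K, hK⟩, (z ⟨K, hK⟩).2, c, hc, h⟩

end rad

end Cfsg.Agent.H17.LT
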