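import Cfsg.Agent.H252.LT.Rows
import Cfsg.Prelude.Def_Local

/-!
# S2927, layer L1: definitions for the case of at least two components

* `Two S Q M K`: a counterexample `Cx S Q M` with `F*(G) = E(G)`, at least two components, all conjugate to the
  simple component `K` under `Q`.
* `DeadR R`: there is no `Two S Q M K` with `R ↥K`.
* `Fib P A`: what is seen in the group `K` (`P = S ∩ K`, `A` the group of automorphisms induced by `N_S(K)`).
* Row predicates which kill `Two`: `RowTwo`, `RowU`, `RowW` (and `KI`, `KP`, `KD`).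
-/

set_option autoImplicit false
open Cfsg Subgroup
open Cfsg.Agent.H229 Cfsg.Agent.H230 Cfsg.Agent.H252.LT

universe u

namespace Cfsg.Agent.H17.LT

/-- A counterexample with at least two components; `K` is one of them. -/
structure Two {G : Type*} [Group G] (S : Sylow 2 G) (Q M K : Subgroup G) : Prop where
  cx : Cx S Q M
  comp : IsComponent K
  simple : IsSimpleGroup ↥K
  nab : ¬ IsMulCommutative ↥K
  /-- `C_G(E(G)) = 1` -/
  cent : centralizer (layer G : Set G) = ⊥
  /-- `Q` permutes the components transitively -/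
  trans : ∀ L : Subgroup G, IsComponent L → ∃ q ∈ Q, cj q K = L
  other : ∃ L : Subgroup G, IsComponent L ∧ L ≠ K

/-- no counterexample with at least two components, one of them `K` with `R K`. -/
def DeadR (R : (K : Type u) → [Group K] → Prop) : Prop :=
  ∀ {G : Type u} [Group G] [Finite G] {S : Sylow 2 G} {Q M K : Subgroup G}, Two S Q M K → R ↥K → False

/-- The situation in a component: `P` a Sylow 2-subgroup, `A` a 2-group of automorphisms containing the conjugations with
elements of `P` and leaving `P` invariant. -/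
structure Fib {K : Type*} [Group K] (P : Sylow 2 K) (A : Subgroup (MulAut K)) : Prop where
  two : IsPGroup 2 ↥A
  inn : ∀ s ∈ (P : Subgroup K), MulAut.conj s ∈ A
  norm : ∀ a ∈ A, ∀ s ∈ (P : Subgroup K), a s ∈ (P : Subgroup K)
  /-- the centralizers of the `A`-invariant elements are 2-groups -/
  fix : ∀ z ∈ (P : Subgroup K), z ≠ 1 → (∀ a ∈ A, a z = z) → IsPGroup 2 ↥(centralizer ({z} : Set K))
  /-- an `A`-invariant 2-local subgroup not normalising `P` -/
  loc : ∃ X : Subgroup K, (P : Subgroup K) ≤ X ∧ (∀ a ∈ A, ∀ x ∈ X, a x ∈ X) ∧ pCoreOf 2 X ≠ ⊥ ∧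
    ¬ X ≤ normalizer ((P : Subgroup K) : Set K)

/-- **Row two**: no centralizer of a 2-central involution is a 2-group. -/
def RowTwo (K : Type u) [Group K] : Prop :=
  ∀ z : K, TwoCentral z → ¬ IsPGroup 2 ↥(centralizer ({z} : Set K))

/-- **Row U**: for some (equivalently, every) Sylow 2-subgroup `P`, every `X ≥ P` with `O₂(X) ≠ 1` normalises `P`. -/
def RowU (K : Type u) [Group K] : Prop :=
  ∃ P : Sylow 2 K, ∀ X : Subgroup K, (P : Subgroup K) ≤ X → pCoreOf 2 X ≠ ⊥ → X ≤ normalizer ((P : Subgroup K) : Set K)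

/-- two "parabolic" subgroups `N(A)`, `N(B)` -/
structure WPair {K : Type*} [Group K] (P A B : Subgroup K) : Prop where
  neA : A ≠ ⊥
  neB : B ≠ ⊥
  PA : P ≤ normalizer (A : Set K)
  PB : P ≤ normalizer (B : Set K)
  /-- `A = O₂(N(A))` -/
  coreA : pCoreOf 2 (normalizer (A : Set K)) = A
  coreB : pCoreOf 2 (normalizer (B : Set K)) = B
  /-- every automorphism leaving `P` invariant fixes or swaps `A` and `B` -/
  aut : ∀ α : MulAut K, P.map α.toMonoidHom = P →
    (A.map α.toMonoidHom = A ∧ B.map α.toMonoidHom = B) ∨ (A.map α.toMonoidHom = B ∧ B.map α.toMonoidHom = A)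
  /-- the 2-local subgroups over `P` -/
  loc : ∀ X : Subgroup K, P ≤ X → pCoreOf 2 X ≠ ⊥ →
    X ≤ normalizer (P : Set K) ∨ X ≤ normalizer (A : Set K) ∨ X ≤ normalizer (B : Set K)
  inf : normalizer (A : Set K) ⊓ normalizer (B : Set K) ≤ normalizer (P : Set K)
  gen : normalizer (A : Set K) ⊔ normalizer (B : Set K) = ⊤
  /-- a nontrivial element of `A ∩ B` whose centralizer is a 2-group does not lie in a subgroup `F ≤ A ∩ B`
  normalised by a 2-local subgroup `X ≥ P` not normalising `P` -/
  inv : ∀ X F : Subgroup K, P ≤ X → ¬ X ≤ normalizer (P : Set K) →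
    (X ≤ normalizer (A : Set K) ∨ X ≤ normalizer (B : Set K)) → F ≤ A ⊓ B → X ≤ normalizer (F : Set K) →
    ∀ f ∈ F, f ≠ 1 → ¬ IsPGroup 2 ↥(centralizer ({f} : Set K))

/-- **Row W**: `K` has a `WPair` for some Sylow 2-subgroup (`L₃(2ⁿ)`, `A₆`, `Sp₄(2ⁿ)`). -/
def RowW (K : Type u) [Group K] : Prop :=
  ∃ (P : Sylow 2 K) (A B : Subgroup K), WPair (P : Subgroup K) A B

end Cfsg.Agent.H17.LT
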