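import Cfsg.Agent.H17.LT.Fix

/-!
# S2927, layer L1: the projection of 2-local subgroups over `S` to a component
-/

set_option autoImplicit false
set_option linter.unusedSectionVars false
open Cfsg Subgroup
open Cfsg.Agent.H229 Cfsg.Agent.H230 Cfsg.Agent.H252.LT
open Cfsg.Agent.SignalizersComponents.Components

universe u

namespace Cfsg.Agent.H17.LT

variable {G : Type u} [Group G] [Finite G] {S : Sylow 2 G} {Q M K : Subgroup G}

/-- the projection of `H ≤ N(K)` to `K` -/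
def pr (K H : Subgroup G) : Subgroup G := (H ⊔ centralizer (K : Set G)) ⊓ K

theorem mem_pr {H : Subgroup G} (hH : H ≤ normalizer (K : Set G)) {x : G} :
    x ∈ pr K H ↔ x ∈ K ∧ ∃ h ∈ H, ∃ c ∈ centralizer (K : Set G), x = h * c := by
  have h1 : H ≤ normalizer ((centralizer (K : Set G) : Subgroup G) : Set G) :=
    hH.trans (norm_le_norm_centralizer _)
  rw [pr, mem_inf, sup_comm, mem_sup_of_norm h1, and_comm]
  refine and_congr_right fun _ => ?_
  constructor
  · rintro ⟨c, hc, h, hh, rfl⟩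
    refine ⟨h, hh, h⁻¹ * c * h, ?_, by group⟩
    have := (le_norm_iff.1 h1) h⁻¹ (H.inv_mem hh) c hc
    simpa using this
  · rintro ⟨h, hh, c, hc, rfl⟩
    exact ⟨h * c * h⁻¹, (le_norm_iff.1 h1) h hh c hc, h, hh, by group⟩

theorem pr_le (K H : Subgroup G) : pr K H ≤ K := inf_le_right

theorem pr_mono {H H' : Subgroup G} (h : H ≤ H') : pr K H ≤ pr K H' := inf_le_inf_right _ (sup_le_sup_right h _)

theorem inf_le_pr (K H : Subgroup G) : H ⊓ K ≤ pr K H := inf_le_inf_right _ le_sup_left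

theorem cj_pr (g : G) (K H : Subgroup G) : cj g (pr K H) = pr (cj g K) (cj g H) := by
  rw [pr, pr, cj_inf, cj_sup, cj_centralizer]

/-- the element `k` of `r = k c` -/
theorem decomp_mem_pr {H : Subgroup G} (hH : H ≤ normalizer (K : Set G)) {k c : G} (hk : k ∈ K)
    (hc : c ∈ centralizer (K : Set G)) (h : k * c ∈ H) : k ∈ pr K H :=
  (mem_pr hH).2 ⟨hk, k * c, h, c⁻¹, (centralizer (K : Set G)).inv_mem hc, by group⟩

/-- the projection of a 2-group is a 2-group -/
theorem isPGroup_pr (hKc : K ⊓ centralizer (K : Set G) = ⊥) {R : Subgroup G} (hR : R ≤ normalizer (K : Set G))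
    (hp : IsPGroup 2 ↥R) : IsPGroup 2 ↥(pr K R) := by
  rintro ⟨x, hx⟩
  obtain ⟨hxK, r, hr, c, hc, hrc⟩ := (mem_pr hR).1 hx
  obtain ⟨n, hn⟩ := hp ⟨r, hr⟩
  have hn' : r ^ 2 ^ n = 1 := congrArg Subtype.val hn
  refine ⟨n, Subtype.ext ?_⟩
  show x ^ 2 ^ n = 1
  have hcomm : Commute x c := (mem_centralizer_iff.1 hc x hxK)
  have h1 : r = x * c⁻¹ := by rw [hrc]; group
  rw [h1, (hcomm.inv_right).mul_pow, inv_pow, mul_inv_eq_one] at hn'
  have h2 : x ^ 2 ^ n ∈ K ⊓ centralizer (K : Set G) :=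
    ⟨pow_mem hxK _, by rw [hn']; exact Subgroup.pow_mem _ hc _⟩
  rwa [hKc, mem_bot] at h2

/-- `pr K N` is normalized by `pr K H` if `N` is normalized by `H` -/
theorem pr_le_norm {H N : Subgroup G} (hH : H ≤ normalizer (K : Set G)) (h : H ≤ normalizer (N : Set G)) :
    pr K H ≤ normalizer (pr K N : Set G) := by
  intro x hx
  obtain ⟨hxK, y, hy, c, hc, hyc⟩ := (mem_pr hH).1 hx
  refine norm_inf_le _ _ ⟨?_, le_normalizer hxK⟩
  rw [hyc]
  refine mul_mem ?_ ?_
  · exact norm_sup_le _ _ ⟨h hy, norm_le_norm_centralizer _ (hH hy)⟩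
  · exact le_normalizer (mem_sup_right hc)

theorem layer_le_norm (t : Two S Q M K) : layer G ≤ normalizer (K : Set G) := layer_le_normalizer_component t.comp

/-- elements of `S` normalizing `K` normalize the projection of `L ∩ E(G)` -/
theorem norm_pr {L : Subgroup G} {g : G} (hg : g ∈ L) (hgK : g ∈ normalizer (K : Set G)) :
    g ∈ normalizer (pr K (L ⊓ layer G) : Set G) := by
  refine norm_inf_le _ _ ⟨?_, hgK⟩
  refine norm_sup_le _ _ ⟨?_, norm_le_norm_centralizer _ hgK⟩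
  refine norm_inf_le _ _ ⟨le_normalizer hg, ?_⟩
  rw [Subgroup.normalizer_eq_top_iff.2 (layer_normal G)]
  exact mem_top g

theorem Two.sylow_ne_bot (t : Two S Q M K) : (S : Subgroup G) ⊓ K ≠ ⊥ := by
  have hs := t.simple
  exact LT.sylow_ne_bot (sylow_comp S t.comp) (Cx.two_dvd_of_simple t.nab)

/-- `O₂(L ∩ E(G)) ≠ 1` -/
theorem Two.core_inf_layer (t : Two S Q M K) {L : Subgroup G} (hS : (S : Subgroup G) ≤ L) (hL : pCoreOf 2 L ≠ ⊥) :
    pCoreOf 2 (L ⊓ layer G) ≠ ⊥ := by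
  have : Fact (Nat.Prime 2) := ⟨Nat.prime_two⟩
  have h1 : ChP 2 L := t.cx.chP_of_S hS hL
  have h2 : ChP 2 (L ⊓ layer G) := by
    refine h1.normal inf_le_left ?_
    intro g hg
    refine norm_inf_le _ _ ⟨le_normalizer hg, ?_⟩
    rw [Subgroup.normalizer_eq_top_iff.2 (layer_normal G)]
    exact mem_top g
  intro h
  unfold ChP at h2
  rw [h] at h2
  apply t.sylow_ne_bot
  rw [eq_bot_iff]
  refine le_trans ?_ h2
  refine le_inf (le_inf (inf_le_left.trans hS) (inf_le_right.trans (component_le_layer t.comp))) ?_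
  intro x _
  rw [mem_centralizer_iff]
  intro y hy
  rw [SetLike.mem_coe, mem_bot] at hy
  rw [hy, one_mul, mul_one]

/-- `O₂` of the projection of `L ∩ E(G)` is nontrivial -/
theorem Two.core_pr (t : Two S Q M K) {L : Subgroup G} (hS : (S : Subgroup G) ≤ L) (hL : pCoreOf 2 L ≠ ⊥) :
    pCoreOf 2 (pr K (L ⊓ layer G)) ≠ ⊥ := by
  have : Fact (Nat.Prime 2) := ⟨Nat.prime_two⟩
  set R := pCoreOf 2 (L ⊓ layer G) with hR
  have hRl : R ≤ layer G := (pCoreOf_le 2 _).trans inf_le_right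
  have hlK := layer_le_norm t
  have hRK : R ≤ normalizer (K : Set G) := hRl.trans hlK
  have hRp : IsPGroup 2 ↥R := H229.isPGroup_pCoreOf 2 _
  have h1 : pr K R ≤ pCoreOf 2 (pr K (L ⊓ layer G)) := by
    apply H229.le_pCoreOf
    · exact pr_mono (pCoreOf_le 2 _)
    · exact pr_le_norm (inf_le_right.trans hlK) (le_norm_pCoreOf 2 _)
    · exact isPGroup_pr t.inf_cent hRK hRp
  intro h
  rw [h, le_bot_iff] at h1
  -- `R ≤ C(K)`
  have h2 : R ≤ centralizer (K : Set G) := by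
    intro r hr
    obtain ⟨k, hk, c, hc, hrc⟩ := layer_decomp t.comp (hRl hr)
    have h3 : k ∈ pr K R := decomp_mem_pr hRK hk hc (by rw [← hrc]; exact hr)
    rw [h1, mem_bot] at h3
    rw [hrc, h3, one_mul]
    exact hc
  have h3 : R ≤ centralizer (layer G : Set G) := by
    intro r hr
    apply mem_centralizer_layer
    intro i x hx
    obtain ⟨q, hq, hqi⟩ := t.trans i.1 i.2
    have hqL : q ∈ L := hS (t.cx.st.QS hq)
    have hqR : q ∈ normalizer (R : Set G) := by
      refine norm_le_norm_pCoreOf 2 _ (norm_inf_le _ _ ⟨le_normalizer hqL, ?_⟩)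
      rw [Subgroup.normalizer_eq_top_iff.2 (layer_normal G)]
      exact mem_top q
    have h4 : q⁻¹ * r * q ∈ R := by
      have := (mem_normalizer_iff.1 (inv_mem hqR) r).1 hr
      simpa using this
    have h5 : q⁻¹ * x * q ∈ K := by
      rw [← hqi, mem_cj] at hx
      exact hx
    have h6 := mem_centralizer_iff.1 (h2 h4) _ h5
    calc x * r = q * ((q⁻¹ * x * q) * (q⁻¹ * r * q)) * q⁻¹ := by group
      _ = q * ((q⁻¹ * r * q) * (q⁻¹ * x * q)) * q⁻¹ := by rw [h6]
      _ = r * x := by group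
  rw [t.cent, le_bot_iff] at h3
  exact t.core_inf_layer hS hL h3

/-- the product of the `S ∩ Kᵢ` -/
def PE (S : Sylow 2 G) : Subgroup G := ⨆ i : Cmp G, (S : Subgroup G) ⊓ i.1

/-- **permutation**: if the projection of `L ∩ E(G)` to `K` normalizes `S ∩ K` then `L` permutes the `S ∩ Kᵢ`. -/
theorem Two.perm (t : Two S Q M K) {L : Subgroup G} (hS : (S : Subgroup G) ≤ L)
    (h : pr K (L ⊓ layer G) ≤ normalizer (((S : Subgroup G) ⊓ K : Subgroup G) : Set G)) {l : G} (hl : l ∈ L)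
    {N : Subgroup G} (hN : IsComponent N) : cj l ((S : Subgroup G) ⊓ N) = (S : Subgroup G) ⊓ cj l N := by
  have : Fact (Nat.Prime 2) := ⟨Nat.prime_two⟩
  have hLn : L ≤ normalizer ((L ⊓ layer G : Subgroup G) : Set G) := by
    intro g hg
    refine norm_inf_le _ _ ⟨le_normalizer hg, ?_⟩
    rw [Subgroup.normalizer_eq_top_iff.2 (layer_normal G)]
    exact mem_top g
  -- `L ∩ E` normalizes every `S ∩ i`
  have h1 : ∀ N : Subgroup G, IsComponent N → L ⊓ layer G ≤ normalizer (((S : Subgroup G) ⊓ N : Subgroup G) : Set G) := by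
    intro N hN
    obtain ⟨q, hq, rfl⟩ := t.trans N hN
    have hqL : q ∈ L := hS (t.cx.st.QS hq)
    have hqS : cj q (S : Subgroup G) = (S : Subgroup G) := cj_mem_self (t.cx.st.QS hq)
    have e1 : (S : Subgroup G) ⊓ cj q K = cj q ((S : Subgroup G) ⊓ K) := by rw [cj_inf, hqS]
    have e2 : cj q (L ⊓ layer G) = L ⊓ layer G := mem_norm.1 (hLn hqL)
    have h2 : pr (cj q K) (L ⊓ layer G) ≤ normalizer (((S : Subgroup G) ⊓ cj q K : Subgroup G) : Set G) := by
      rw [e1, ← cj_normalizer]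
      nth_rewrite 1 [← e2]
      rw [← cj_pr]
      exact cj_mono h
    intro x hx
    obtain ⟨k, hk, c, hc, hxc⟩ := layer_decomp hN hx.2
    have h3 : k ∈ pr (cj q K) (L ⊓ layer G) :=
      decomp_mem_pr (inf_le_right.trans (layer_le_normalizer_component hN)) hk hc (by rw [← hxc]; exact hx)
    rw [hxc]
    refine mul_mem (h2 h3) (centralizer_le_norm _ ?_)
    exact centralizer_le (show ((S : Subgroup G) ⊓ cj q K : Set G) ⊆ (cj q K : Subgroup G) from
      fun y hy => hy.2) hc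
  -- Sylow subgroups of `L ∩ E`
  have h2 : IsSylowOf 2 ((S : Subgroup G) ⊓ layer G) (L ⊓ layer G) := by
    have h3 := (isSylowOf_of_sylow S hS).inf_normal (inf_le_left : L ⊓ layer G ≤ L) hLn
    have e : (S : Subgroup G) ⊓ (L ⊓ layer G) = (S : Subgroup G) ⊓ layer G := by
      rw [← inf_assoc, inf_eq_left.2 hS]
    rwa [e] at h3
  have h3 : IsSylowOf 2 (cj l ((S : Subgroup G) ⊓ layer G)) (L ⊓ layer G) := by
    have h4 := h2.map_equiv (MulAut.conj l)
    have e : (L ⊓ layer G).map (MulAut.conj l).toMonoidHom = L ⊓ layer G := mem_norm.1 (hLn hl)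
    rw [e] at h4
    exact h4
  obtain ⟨x, hx, hxl⟩ := h2.exists_conj h3
  have hNl := component_le_layer hN
  have hNl' := component_le_layer (isComponent_cj hN l)
  have hxN : cj x (cj l N) = cj l N := mem_norm.1 (layer_le_normalizer_component (isComponent_cj hN l) hx.2)
  have e1 : (S : Subgroup G) ⊓ N = (S : Subgroup G) ⊓ layer G ⊓ N := by rw [inf_assoc, inf_eq_right.2 hNl]
  have e2 : (S : Subgroup G) ⊓ cj l N = (S : Subgroup G) ⊓ layer G ⊓ cj l N := by
    rw [inf_assoc, inf_eq_right.2 hNl']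
  have hxl' : cj x ((S : Subgroup G) ⊓ layer G) = cj l ((S : Subgroup G) ⊓ layer G) := hxl
  calc cj l ((S : Subgroup G) ⊓ N) = cj l ((S : Subgroup G) ⊓ layer G) ⊓ cj l N := by rw [e1, cj_inf]
    _ = cj x ((S : Subgroup G) ⊓ layer G) ⊓ cj x (cj l N) := by rw [hxl', hxN]
    _ = cj x ((S : Subgroup G) ⊓ cj l N) := by rw [← cj_inf, e2]
    _ = (S : Subgroup G) ⊓ cj l N := mem_norm.1 (h1 _ (isComponent_cj hN l) hx)

theorem Two.le_norm_PE (t : Two S Q M K) {L : Subgroup G} (hS : (S : Subgroup G) ≤ L)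
    (h : pr K (L ⊓ layer G) ≤ normalizer (((S : Subgroup G) ⊓ K : Subgroup G) : Set G)) :
    L ≤ normalizer (PE S : Set G) := by
  intro l hl
  rw [mem_norm]
  apply cj_eq_of_le
  unfold PE
  show (⨆ i : Cmp G, (S : Subgroup G) ⊓ i.1).map _ ≤ _
  rw [Subgroup.map_iSup]
  refine iSup_le fun i => ?_
  have h1 := t.perm hS h hl i.2
  refine le_trans (le_of_eq h1) ?_
  exact le_iSup (fun i : Cmp G => (S : Subgroup G) ⊓ i.1) ⟨cj l i.1, isComponent_cj i.2 l⟩

/-- **loc** -/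
theorem Two.loc (t : Two S Q M K) :
    ∃ X : Subgroup G, X ≤ K ∧ (S : Subgroup G) ⊓ K ≤ X ∧
      (S : Subgroup G) ⊓ normalizer (K : Set G) ≤ normalizer (X : Set G) ∧ pCoreOf 2 X ≠ ⊥ ∧
      ¬ X ≤ normalizer (((S : Subgroup G) ⊓ K : Subgroup G) : Set G) := by
  have : Fact (Nat.Prime 2) := ⟨Nat.prime_two⟩
  by_contra hcon
  push Not at hcon
  have hmax : ∀ L : Subgroup G, IsMaximalTwoLocal L → (S : Subgroup G) ≤ L → L = normalizer (PE S : Set G) := by
    rintro L ⟨⟨T, hT, hT1, hTL⟩, hL⟩ hSL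
    have hc : pCoreOf 2 L ≠ ⊥ := by
      intro h
      apply hT1
      rw [eq_bot_iff, ← h]
      exact H229.le_pCoreOf (hTL ▸ le_normalizer) (by rw [hTL]) hT
    have h1 := hcon (pr K (L ⊓ layer G)) (pr_le _ _)
      ((le_inf (le_inf (inf_le_left.trans hSL) (inf_le_right.trans (component_le_layer t.comp))) inf_le_right).trans
        (inf_le_pr K _))
      (fun g hg => norm_pr (hSL hg.1) hg.2) (t.core_pr hSL hc)
    have h2 := t.le_norm_PE hSL h1
    symm
    apply hL _ _ h2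
    refine ⟨PE S, ?_, ?_, rfl⟩
    · exact isPGroup_mono (iSup_le fun i => inf_le_left) S.2
    · intro h
      apply t.sylow_ne_bot
      rw [eq_bot_iff, ← h]
      exact le_iSup (fun i : Cmp G => (S : Subgroup G) ⊓ i.1) ⟨K, t.comp⟩
  obtain ⟨M₁, M₂, hne, h1, h2, h1S, h2S⟩ := t.cx.two
  exact hne ((hmax M₁ h1 h1S).trans (hmax M₂ h2 h2S).symm)

end Cfsg.Agent.H17.LT
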