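import Cfsg.Agent.H17.LT.Defs
import Cfsg.Agent.H17.LT.Comps
import Cfsg.Agent.H252.LT.Tr
import Cfsg.Agent.H230.RelTwo
import Cfsg.Agent.S0068
import Cfsg.Agent.SignalizersComponents.CompOrbit

/-!
# S2927, layer L1: `O₂(G) = O(G) = 1`, `F*(G) = E(G)`, `Q` is transitive on the components
-/

set_option autoImplicit false
set_option linter.unusedSectionVars false
open Cfsg Subgroup
open Cfsg.Agent.H229 Cfsg.Agent.H230 Cfsg.Agent.H252.LT
open Cfsg.Agent.SignalizersComponents.Components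
open scoped Pointwise

universe u

namespace Cfsg.Agent.H17.LT

variable {G : Type u} [Group G] [Finite G] {S : Sylow 2 G} {Q M : Subgroup G}

/-- `O₂(G) = 1` -/
theorem pCore_eq_bot (c : Cx S Q M) : pCore 2 G = ⊥ := by
  by_contra h
  obtain ⟨M₁, M₂, hne, ⟨h1, h1'⟩, ⟨h2, h2'⟩, -, -⟩ := c.two
  have htop : IsTwoLocal (⊤ : Subgroup G) := by
    refine ⟨pCore 2 G, Lib.Cores.pCore_isPGroup 2, h, ?_⟩
    exact (Subgroup.normalizer_eq_top_iff.2 (Lib.Cores.pCore_normal 2)).symm
  exact hne ((h1' ⊤ htop le_top).symm.trans (h2' ⊤ htop le_top))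

/-- a central involution of `S` inverts the subgroup `O(G)` -/
theorem inverts_core (c : Cx S Q M) {z : G} (hz : z ∈ centralizer ((S : Subgroup G) : Set G)) (h2 : z ^ 2 = 1)
    (h1 : z ≠ 1) : ∀ x ∈ pPrimeCore 2 G, z * x * z⁻¹ = x⁻¹ := by
  have : Fact (Nat.Prime 2) := ⟨Nat.prime_two⟩
  have hn : (pPrimeCore 2 G).Normal := Lib.Cores.pPrimeCore_normal 2
  have hco : (Nat.card (pPrimeCore 2 G)).Coprime 2 := Lib.Cores.pPrimeCore_coprime 2
  intro x hx
  refine Cfsg.Agent.S0068.inverts_of_fixedPointFree (pPrimeCore 2 G) ?_ (by rw [← pow_two]; exact h2) ?_ hx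
  · rw [Subgroup.normalizer_eq_top_iff.2 hn]; exact mem_top z
  -- `C_{O(G)}(z) = 1`
  intro k hk hzk
  set C := centralizer ({z} : Set G) with hC
  have hch := c.chP_center hz h1
  set D := pPrimeCore 2 G ⊓ C with hD
  have hDn : C ≤ normalizer (D : Set G) := by
    intro g hg
    refine norm_inf_le _ _ ⟨?_, le_normalizer hg⟩
    rw [Subgroup.normalizer_eq_top_iff.2 hn]; exact mem_top g
  have hDco : (Nat.card D).Coprime 2 := Nat.Coprime.of_dvd_left (card_dvd_of_le inf_le_left) hco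
  have hdis : D ⊓ pCoreOf 2 C = ⊥ := by
    rw [← Subgroup.card_eq_one]
    obtain ⟨n, hn'⟩ := IsPGroup.iff_card.1 (H229.isPGroup_pCoreOf 2 C)
    have h3 : (Nat.card D).Coprime (Nat.card (pCoreOf 2 C)) := by
      rw [hn']; exact Nat.Coprime.pow_right _ hDco
    exact Nat.eq_one_of_dvd_coprimes h3 (card_dvd_of_le inf_le_left) (card_dvd_of_le inf_le_right)
  have hcomm : D ≤ centralizer (pCoreOf 2 C : Set G) := by
    intro d hd
    rw [mem_centralizer_iff]
    intro r hr
    have h3 : d * r * d⁻¹ * r⁻¹ ∈ D ⊓ pCoreOf 2 C := by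
      refine ⟨?_, ?_⟩
      · have : r * d⁻¹ * r⁻¹ ∈ D := (le_norm_iff.1 hDn) r (pCoreOf_le 2 C hr) _ (inv_mem hd)
        have e : d * r * d⁻¹ * r⁻¹ = d * (r * d⁻¹ * r⁻¹) := by group
        rw [e]; exact mul_mem hd this
      · exact mul_mem ((le_norm_iff.1 (le_norm_pCoreOf 2 C)) d hd.2 r hr) ((pCoreOf 2 C).inv_mem hr)
    rw [hdis, mem_bot] at h3
    calc r * d = (d * r * d⁻¹ * r⁻¹)⁻¹ * (d * r) := by group
      _ = d * r := by rw [h3]; group
  have hkD : k ∈ D := ⟨hk, mem_centralizer_singleton_iff.2 hzk.symm⟩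
  have h4 : k ∈ pCoreOf 2 C := hch ⟨hkD.2, hcomm hkD⟩
  have h5 : k ∈ D ⊓ pCoreOf 2 C := ⟨hkD, h4⟩
  rw [hdis, mem_bot] at h5
  exact h5

/-- there is an involution in `Z(S)` -/
theorem exists_center (c : Cx S Q M) :
    ∃ z ∈ centralizer ((S : Subgroup G) : Set G), z ^ 2 = 1 ∧ z ≠ 1 := by
  have : Fact (Nat.Prime 2) := ⟨Nat.prime_two⟩
  have h2 : 2 ∣ Nat.card (⊤ : Subgroup G) := by
    have h3 : (S : Subgroup G) ≠ ⊥ := fun h => c.st.large.ne_bot (le_bot_iff.1 (h ▸ c.st.QS))
    obtain ⟨n, hn⟩ := IsPGroup.iff_card.1 S.2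
    rcases Nat.eq_zero_or_pos n with h0 | h0
    · rw [h0, pow_zero, Subgroup.card_eq_one] at hn
      exact absurd hn h3
    · have h4 : 2 ∣ Nat.card (S : Subgroup G) := by
        have h5 : 2 ∣ 2 ^ n := dvd_pow_self 2 h0.ne'
        exact h5.trans (dvd_of_eq hn.symm)
      exact h4.trans (card_dvd_of_le le_top)
  obtain ⟨z, -, hz, hz2, hz1⟩ := Cx.exists_central S (⊤ : Subgroup G) h2
  exact ⟨z, hz, hz2, hz1⟩

/-- `O(G) = 1` -/
theorem core_eq_bot (c : Cx S Q M) : pPrimeCore 2 G = ⊥ := by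
  have : Fact (Nat.Prime 2) := ⟨Nat.prime_two⟩
  have hn : (pPrimeCore 2 G).Normal := Lib.Cores.pPrimeCore_normal 2
  have hco : (Nat.card (pPrimeCore 2 G)).Coprime 2 := Lib.Cores.pPrimeCore_coprime 2
  obtain ⟨z, hz, hz2, hz1⟩ := exists_center c
  -- an element `m ∈ M` moving `z`
  obtain ⟨m, hm, hmz⟩ : ∃ m ∈ M, m * z * m⁻¹ ≠ z := by
    by_contra h
    push Not at h
    apply c.not_M_le hz hz2 hz1
    intro m hm
    rw [mem_centralizer_singleton_iff]
    calc m * z = (m * z * m⁻¹) * m := by group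
      _ = z * m := by rw [h m hm]
  have hY := c.center_mem_Y hz hz2
  have hmY : m * z * m⁻¹ ∈ largestPReducedOf 2 M := (mem_normalizer_iff.1 (c.M_norm_Y hm) z).1 hY
  set w := m * z * m⁻¹ * z with hw
  have hwY : w ∈ largestPReducedOf 2 M := mul_mem hmY hY
  have hzz : z⁻¹ = z := by
    rw [inv_eq_iff_mul_eq_one, ← pow_two]; exact hz2
  have hw1 : w ≠ 1 := by
    intro h
    apply hmz
    calc m * z * m⁻¹ = w * z⁻¹ := by rw [hw]; group
      _ = z := by rw [h, one_mul, hzz]
  have hinv := inverts_core c hz hz2 hz1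
  -- `w` centralizes `O(G)`
  have hwc : w ∈ centralizer (pPrimeCore 2 G : Set G) := by
    rw [mem_centralizer_iff]
    intro x hx
    have h3 : m⁻¹ * x⁻¹ * m ∈ pPrimeCore 2 G := by
      have := hn.conj_mem _ (inv_mem hx) m⁻¹
      simpa using this
    have h4 : w * x * w⁻¹ = x := by
      calc w * x * w⁻¹ = m * (z * (m⁻¹ * (z * x * z⁻¹) * m) * z⁻¹) * m⁻¹ := by rw [hw]; group
        _ = m * (z * (m⁻¹ * x⁻¹ * m) * z⁻¹) * m⁻¹ := by rw [hinv x hx]
        _ = m * (m⁻¹ * x⁻¹ * m)⁻¹ * m⁻¹ := by rw [hinv _ h3]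
        _ = x := by group
    calc x * w = (w * x * w⁻¹) * w := by rw [h4]
      _ = w * x := by group
  -- `C(O(G))` has even order
  have hC0 : (centralizer (pPrimeCore 2 G : Set G)).Normal := by
    rw [← Subgroup.normalizer_eq_top_iff, eq_top_iff]
    refine le_trans ?_ (norm_le_norm_centralizer _)
    rw [Subgroup.normalizer_eq_top_iff.2 hn]
  have h2 : 2 ∣ Nat.card (centralizer (pPrimeCore 2 G : Set G)) := by
    have h3 : orderOf w = 2 := orderOf_eq_prime (c.Y_ea.2 w hwY) hw1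
    have h4 : zpowers w ≤ centralizer (pPrimeCore 2 G : Set G) := by rw [zpowers_le]; exact hwc
    have h5 := card_dvd_of_le h4
    rwa [Nat.card_zpowers, h3] at h5
  obtain ⟨z', hz'c, hz', hz'2, hz'1⟩ := Cx.exists_central S (centralizer (pPrimeCore 2 G : Set G)) h2
  have hinv' := inverts_core c hz' hz'2 hz'1
  rw [eq_bot_iff]
  intro x hx
  have h3 : x⁻¹ = x := by
    rw [← hinv' x hx]
    calc z' * x * z'⁻¹ = x * z' * z'⁻¹ := by rw [(mem_centralizer_iff.1 hz'c x hx)]
      _ = x := by group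
  have h4 : x ^ 2 = 1 := by
    calc x ^ 2 = x⁻¹ * x := by rw [h3, pow_two]
      _ = 1 := by group
  have h5 : orderOf x ∣ 2 := orderOf_dvd_of_pow_eq_one h4
  have h6 : orderOf x ∣ Nat.card (pPrimeCore 2 G) := by
    have : zpowers x ≤ pPrimeCore 2 G := by rw [zpowers_le]; exact hx
    rw [← Nat.card_zpowers]
    exact card_dvd_of_le this
  rw [mem_bot, ← orderOf_eq_one_iff]
  exact Nat.eq_one_of_dvd_coprimes hco h6 h5

/-- `F(G) = 1` -/
theorem fitting_eq_bot (c : Cx S Q M) : fittingSubgroup G = ⊥ := by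
  have : Fact (Nat.Prime 2) := ⟨Nat.prime_two⟩
  rw [eq_bot_iff, ← pCore_eq_bot c]
  exact SignalizersComponents.CompOrbit.fittingSubgroup_le_pCore (core_eq_bot c)

theorem centralizer_layer (c : Cx S Q M) : centralizer (layer G : Set G) = ⊥ :=
  centralizer_layer_eq (fitting_eq_bot c)

/-- a Sylow subgroup of a group of even order is nontrivial -/
theorem sylow_ne_bot {T A : Subgroup G} (hT : IsSylowOf 2 T A) (h2 : 2 ∣ Nat.card A) : T ≠ ⊥ := by
  have : Fact (Nat.Prime 2) := ⟨Nat.prime_two⟩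
  obtain ⟨P, rfl⟩ := hT
  intro h
  rw [Subgroup.map_eq_bot_iff_of_injective _ A.subtype_injective] at h
  exact P.ne_bot_of_dvd_card h2 h

theorem sylow_layer (S : Sylow 2 G) : IsSylowOf 2 ((S : Subgroup G) ⊓ layer G) (layer G) := by
  have : Fact (Nat.Prime 2) := ⟨Nat.prime_two⟩
  have h0 : IsSylowOf 2 (S : Subgroup G) (⊤ : Subgroup G) := isSylowOf_of_sylow S le_top
  refine h0.inf_normal le_top ?_
  have hn : (layer G).Normal := layer_normal G
  rw [Subgroup.normalizer_eq_top_iff.2 hn]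

theorem sylow_of_layer (S : Sylow 2 G) {X : Subgroup G} (hX : X ≤ layer G) (hn : layer G ≤ normalizer (X : Set G)) :
    IsSylowOf 2 ((S : Subgroup G) ⊓ X) X := by
  have : Fact (Nat.Prime 2) := ⟨Nat.prime_two⟩
  have h := (sylow_layer S).inf_normal hX hn
  have e : (S : Subgroup G) ⊓ layer G ⊓ X = (S : Subgroup G) ⊓ X := by
    rw [inf_assoc, inf_eq_right.2 hX]
  rwa [e] at h

/-- `S ∩ K` is a Sylow 2-subgroup of the component `K` -/
theorem sylow_comp (S : Sylow 2 G) {K : Subgroup G} (hK : IsComponent K) :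
    IsSylowOf 2 ((S : Subgroup G) ⊓ K) K :=
  sylow_of_layer S (component_le_layer hK) (layer_le_normalizer_component hK)

/-- A component does not normalize `Q`. -/
theorem not_le_norm_Q (c : Cx S Q M) {L : Subgroup G} (hL : IsComponent L) : ¬ L ≤ normalizer (Q : Set G) := by
  have : Fact (Nat.Prime 2) := ⟨Nat.prime_two⟩
  intro h
  have hnil : Group.IsNilpotent ↥Q := (c.st.large.pgroup).isNilpotent
  have hsol : Group.IsSolvable ↥Q := inferInstance
  have h1 := component_commutator_solvable hL h hsol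
  have h2 : L ≤ centralizer (Q : Set G) := by
    rwa [← Subgroup.commutator_eq_bot_iff_le_centralizer]
  have h3 : L ≤ Q := h2.trans c.st.large.cent
  have h4 : IsPGroup 2 ↥L := isPGroup_mono h3 c.st.large.pgroup
  have hnil2 : Group.IsNilpotent ↥L := h4.isNilpotent
  exact quasisimple_not_isSolvable hL.2 inferInstance

/-- `C_G(a) ≤ N_G(Q)` for `1 ≠ a ∈ C_G(Q)` -/
theorem cent_le_of (c : Cx S Q M) {a : G} (ha : a ∈ centralizer (Q : Set G)) (ha1 : a ≠ 1) :
    centralizer ({a} : Set G) ≤ normalizer (Q : Set G) := by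
  have h3 : zpowers a ≠ ⊥ := by rwa [Ne, zpowers_eq_bot]
  refine le_trans ?_ (c.st.large.norm (by rw [zpowers_le]; exact ha) h3)
  exact (centralizer_singleton_le_zpowers a).trans (centralizer_le_norm _)

theorem layer_le_norm_orb {K : Subgroup G} (hK : IsComponent K) :
    layer G ≤ normalizer (SignalizersComponents.CompOrbit.orb Q K : Set G) := by
  intro x hx
  rw [mem_norm]
  apply cj_eq_of_le
  rw [SignalizersComponents.CompOrbit.orb]
  show (⨆ g : ↥Q, MulAut.conj (g : G) • K).map _ ≤ _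
  rw [Subgroup.map_iSup]
  refine iSup_le fun g => ?_
  refine le_trans ?_ (le_iSup (fun g : ↥Q => MulAut.conj (g : G) • K) g)
  exact cj_le_of_norm (layer_le_normalizer_component
    (SignalizersComponents.CompOrbit.isComponent_smul (g : G) hK) hx)

/-- `Q` is transitive on the components -/
theorem trans_of (c : Cx S Q M) {K L : Subgroup G} (hK : IsComponent K) (hL : IsComponent L) :
    ∃ q ∈ Q, cj q K = L := by
  have : Fact (Nat.Prime 2) := ⟨Nat.prime_two⟩
  by_contra hcon
  push Not at hcon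
  set X := SignalizersComponents.CompOrbit.orb Q K with hX
  have hLX : L ≤ centralizer (X : Set G) := by
    refine (SignalizersComponents.CompOrbit.le_orb Q L).trans
      (SignalizersComponents.CompOrbit.orb_le_centralizer_orb hK hL ?_)
    intro g hg h
    exact hcon g hg h.symm
  have hKX : K ≤ X := SignalizersComponents.CompOrbit.le_orb Q K
  have hQX : Q ≤ normalizer (X : Set G) := SignalizersComponents.CompOrbit.le_normalizer_orb Q K
  have h2 : 2 ∣ Nat.card X := by
    have hs := component_simple (centralizer_layer c) hK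
    exact (Cx.two_dvd_of_simple (component_not_comm hK)).trans (card_dvd_of_le hKX)
  have hSX : (S : Subgroup G) ⊓ X ≠ ⊥ :=
    sylow_ne_bot (sylow_of_layer S (SignalizersComponents.CompOrbit.orb_le_layer hK) (layer_le_norm_orb hK)) h2
  have hSXp : IsPGroup 2 ↥((S : Subgroup G) ⊓ X : Subgroup G) := isPGroup_mono inf_le_left S.2
  have hQn : Q ≤ normalizer (((S : Subgroup G) ⊓ X : Subgroup G) : Set G) := fun q hq =>
    norm_inf_le _ _ ⟨le_normalizer (c.st.QS hq), hQX hq⟩
  have h3 := c.st.large.inf_centralizer_ne_bot hSXp hSX hQn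
  obtain ⟨a, ha1⟩ := Subgroup.ne_bot_iff_exists_ne_one.1 h3
  have ha1' : (a : G) ≠ 1 := fun h => ha1 (Subtype.ext h)
  refine not_le_norm_Q c hL (le_trans ?_ (cent_le_of c a.2.2 ha1'))
  intro l hl
  rw [mem_centralizer_singleton_iff]
  exact (mem_centralizer_iff.1 (hLX hl) a a.2.1.2).symm

theorem exists_comp (c : Cx S Q M) : ∃ K : Subgroup G, IsComponent K := by
  by_contra h
  push Not at h
  have h1 : layer G = ⊥ := by
    rw [eq_bot_iff, layer_le_iff]
    exact fun K hK => (h K hK).elim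
  have h2 := centralizer_layer c
  rw [h1] at h2
  obtain ⟨z, -, -, hz1⟩ := exists_center c
  apply hz1
  have h3 : z ∈ centralizer ((⊥ : Subgroup G) : Set G) := by
    rw [mem_centralizer_iff]
    intro x hx
    rw [SetLike.mem_coe, mem_bot] at hx
    rw [hx, one_mul, mul_one]
  rwa [h2, mem_bot] at h3

/-- **The reduction.** -/
theorem red (c : Cx S Q M) :
    (∃ K : Subgroup G, K.Normal ∧ IsSimpleGroup ↥K ∧ ¬ IsMulCommutative ↥K ∧ centralizer (K : Set G) = ⊥) ∨
      ∃ K : Subgroup G, Two S Q M K := by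
  obtain ⟨K, hK⟩ := exists_comp c
  have hlay := centralizer_layer c
  by_cases h : ∀ L : Subgroup G, IsComponent L → L = K
  · left
    have h1 : layer G = K := le_antisymm (layer_le_iff.2 fun L hL => (h L hL).le) (component_le_layer hK)
    refine ⟨K, ?_, component_simple hlay hK, component_not_comm hK, ?_⟩
    · rw [← h1]; exact layer_normal G
    · rw [← h1]; exact hlay
  · right
    push Not at h
    exact ⟨K, c, hK, component_simple hlay hK, component_not_comm hK, hlay, fun L hL => trans_of c hK hL, h⟩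

end Cfsg.Agent.H17.LT
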