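import Cfsg.Agent.H17.LT.Asm
import Cfsg.Agent.H96.Tall.Sp4
import Cfsg.Agent.H585.TL.Psl2
import Cfsg.Agent.H188.Tall.RankOne

/-!
# S2927, layer L1: the rows for at least two components, as `DeadR`

* `Fib.toLoc` : `Fib P A → H226.Tall.Loc P A ⊥`;
* `deadR_psl2` (`PSL₂(q)`, `q ≥ 11` odd), `deadR_psp4` (`PSp₄(2^k)`), `deadR_rankOne`, `deadR_sz`, `deadR_psl2E`,
  `deadR_psu3E`.
-/

set_option autoImplicit false
set_option linter.unusedSectionVars false
open Cfsg Subgroup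
open Cfsg.Agent.H229 Cfsg.Agent.H230 Cfsg.Agent.H252.LT

universe u

namespace Cfsg.Agent.H17.LT

open Cfsg.Agent.H226.Tall (O2)

theorem O2_eq {K : Type*} [Group K] (L : Subgroup K) : O2 L = pCoreOf 2 L := rfl

section K

variable {K : Type u} [Group K] [Finite K] {P : Sylow 2 K} {A : Subgroup (MulAut K)}

/-- `O₂(X)` is invariant if `X` is. -/
theorem core_inv {X : Subgroup K} (hAX : ∀ a ∈ A, ∀ x ∈ X, a x ∈ X) : ∀ a ∈ A, ∀ x ∈ pCoreOf 2 X, a x ∈ pCoreOf 2 X := by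
  have hXa : ∀ a ∈ A, ∀ x ∈ X, ∃ y ∈ X, a y = x := by
    intro a ha x hx
    exact ⟨a⁻¹ x, hAX _ (inv_mem ha) x hx, MulAut.apply_inv_self _ a x⟩
  intro a ha x hx
  have h1 : (pCoreOf 2 X).map (a : MulAut K).toMonoidHom ≤ pCoreOf 2 X := by
    apply H229.le_pCoreOf
    · rintro _ ⟨y, hy, rfl⟩
      exact hAX a ha y (pCoreOf_le 2 X hy)
    · rw [le_norm_iff]
      rintro x hx _ ⟨y, hy, rfl⟩
      obtain ⟨x', hx', rfl⟩ := hXa a ha x hx
      refine ⟨x' * y * x'⁻¹, (le_norm_iff.1 (le_norm_pCoreOf 2 X)) x' hx' y hy, ?_⟩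
      show a (x' * y * x'⁻¹) = a x' * a y * (a x')⁻¹
      rw [map_mul, map_mul, map_inv]
    · exact (H229.isPGroup_pCoreOf 2 X).map _
  exact h1 ⟨x, hx, rfl⟩

/-- `Fib` gives helper226's `Loc` -/
theorem Fib.toLoc (h : Fib P A) : H226.Tall.Loc P A ⊥ := by
  have : Fact (Nat.Prime 2) := ⟨Nat.prime_two⟩
  obtain ⟨X, hPX, hAX, hcore, hX⟩ := h.loc
  refine ⟨h.two, h.inn, h.norm, ⟨pCoreOf 2 X, hcore, ?_, core_inv hAX, ?_⟩, bot_le, ?_⟩
  · exact pCoreOf_le_of_isSylowOf (isSylowOf_of_sylow P hPX)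
  · intro h1
    exact hX ((le_norm_pCoreOf 2 X).trans h1)
  · intro R _ _ _ y hy k _
    rw [mem_bot] at hy
    subst hy
    rw [MulAut.one_apply, inv_mul_cancel]
    exact one_mem _

end K

/-! ### Rank one in characteristic two -/

theorem deadR_embeds {R : (K : Type u) → [Group K] → Prop}
    (h : ∀ (K : Type u) [Group K] [Finite K], R K → H188.Tall.RankOne.Embeds K) : DeadR R := by
  refine deadR_of_fib ?_
  intro K _ _ _ _ P A hf hR
  exact (h K hR).loc_false hf.toLoc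

theorem deadR_rankOne : DeadR.{u} fun K _ => H188.Tall.RankOne.Fam K :=
  deadR_embeds fun _ _ _ h => h.embeds

theorem deadR_sz : DeadR.{u} fun K _ => Lie.IsoSuzuki K :=
  deadR_embeds fun _ _ _ h => H188.Tall.RankOne.embeds_sz h

theorem deadR_psl2E : DeadR.{u} fun K _ => ∃ (F : Type) (_ : Field F) (_ : Fintype F) (_ : CharP F 2),
    Nonempty (K ≃* Matrix.ProjectiveSpecialLinearGroup (Fin 2) F) :=
  @deadR_embeds _ fun _ _ _ ⟨F, _, _, _, e⟩ => H188.Tall.RankOne.embeds_psl F e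

theorem deadR_psu3E : DeadR.{u} fun K _ => ∃ (F : Type) (_ : Field F) (_ : Fintype F) (_ : CharP F 2) (q : ℕ),
    Fintype.card F = q ^ 2 ∧ Nonempty (K ≃* PSU 3 F q) :=
  @deadR_embeds _ fun _ _ _ ⟨F, _, _, _, q, hF, e⟩ => H188.Tall.RankOne.embeds_psu F q hF e

/-! ### `PSL₂(q)`, `q` odd -/

theorem deadR_psl2 : DeadR.{u} fun K _ => ∃ (F : Type) (_ : Field F) (_ : Fintype F), Odd (Fintype.card F) ∧
    11 ≤ Fintype.card F ∧ Nonempty (K ≃* Matrix.ProjectiveSpecialLinearGroup (Fin 2) F) := by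
  apply @deadR_of_fib
  rintro K _ _ hs hna P A hf ⟨F, _, _, ho, h11, ⟨e⟩⟩
  have : Fact (Nat.Prime 2) := ⟨Nat.prime_two⟩
  obtain ⟨z, hz1, hz2, hz⟩ := hf.exists_inv hs hna
  have hzP := hf.mem hz hz2
  have h2 := hf.fix z hzP hz1 hz
  have hSz := hf.le_cent hz
  have hzc : ∀ s ∈ (P : Subgroup K), s * z = z * s := fun s hs => mem_centralizer_singleton_iff.1 (hSz hs)
  have hCe := H585.TL.cent_eq P hSz h2
  obtain ⟨k, hk, ⟨f⟩⟩ := H585.TL.dihedral_equiv ho h11 e P hSz h2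
  obtain ⟨R, hR, hRS, hRP, hRn⟩ := hf.toLoc.loc
  apply hRn
  have h3 := H585.TL.normalizer_le hk f hzP hz1 (by rw [← pow_two, hz2]) hzc hRS hR (fun s hs w hw => by
    have := hRP _ (hf.inn s hs) w hw
    rwa [MulAut.conj_apply] at this)
  rw [hCe] at h3
  exact h3.trans le_normalizer

/-! ### `PSp₄(2^k)` -/

/-- the kill for `PSp₄(2^k)` (see `H96.Tall.kill_of_cent`) -/
theorem Fib.kill_of_cent {K : Type u} [Group K] [Finite K] {P : Sylow 2 K} {A : Subgroup (MulAut K)} (hF : Fib P A)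
    {P₁ P₂ : Subgroup K} (h : H96.Tall.RTwo (P : Subgroup K) P₁ P₂) {t : K} (ht1 : t ≠ 1) (htS : t ∈ (P : Subgroup K))
    (htc : ∀ g ∈ P₁, ∀ s ∈ (P : Subgroup K), Commute t (g * s * g⁻¹))
    (hn : ¬ P₁ ≤ normalizer ((P : Subgroup K) : Set K)) : False := by
  have : Fact (Nat.Prime 2) := ⟨Nat.prime_two⟩
  have hfix : ∀ α ∈ A, P₁.map α.toMonoidHom = P₁ := fun α hα => (h.fixed hF.toLoc hα).1
  set L : Subgroup K := H96.Tall.Cl (P : Subgroup K) P₁ with hL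
  have hLα : ∀ α ∈ A, ∀ x ∈ L, α x ∈ L := by
    intro α hα
    have h1 : L ≤ L.comap α.toMonoidHom := by
      refine (closure_le _).2 ?_
      rintro _ ⟨a, ha, s, hs, rfl⟩
      refine subset_closure ⟨α a, ?_, α s, hF.norm α hα s hs, by simp⟩
      rw [← hfix α hα]
      exact ⟨a, ha, rfl⟩
    exact fun x hx => h1 hx
  have htL : t ∈ centralizer (L : Set K) := by
    have h1 : L ≤ centralizer ({t} : Set K) := by
      refine (closure_le _).2 ?_
      rintro _ ⟨a, ha, s, hs, rfl⟩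
      exact mem_centralizer_singleton_iff.2 (htc a ha s hs).eq.symm
    rw [mem_centralizer_iff]
    intro x hx
    exact mem_centralizer_singleton_iff.1 (h1 hx)
  -- a fixed involution of `P ⊓ C(L)`
  obtain ⟨z, hzZ, hz1, hz2, hz⟩ := exists_fixed (Z := (P : Subgroup K) ⊓ centralizer (L : Set K)) hF.two
    (isPGroup_mono inf_le_left P.2) (fun h0 => ht1 (mem_bot.1 (h0 ▸ mem_inf.2 ⟨htS, htL⟩))) (by
      intro a ha x hx
      refine mem_inf.2 ⟨hF.norm a ha x hx.1, ?_⟩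
      have h1 := mem_centralizer_iff.1 hx.2
      rw [mem_centralizer_iff]
      intro y hy
      have h2 := congrArg a (h1 _ (hLα a⁻¹ (inv_mem ha) y hy))
      rwa [map_mul, map_mul, MulAut.apply_inv_self] at h2)
  have hcen := hF.fix z hzZ.1 hz1 hz
  have hLc : L ≤ centralizer ({z} : Set K) := fun x hx =>
    mem_centralizer_singleton_iff.2 (mem_centralizer_iff.1 hzZ.2 x hx)
  have hLS : L = (P : Subgroup K) := P.3 (isPGroup_mono hLc hcen) H96.Tall.le_Cl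
  apply hn
  rw [le_norm_iff]
  intro g hg x hx
  rw [← hLS] at hx ⊢
  exact H96.Tall.Cl_conj hg hx

/-- a fibre is not `PSp₄(2^k)` -/
theorem Fib.false_of_psp4 {F : Type*} [Field F] [CharP F 2] [Finite F] {K : Type u} [Group K] [Finite K]
    (e : K ≃* PSp 2 F) {P : Sylow 2 K} {A : Subgroup (MulAut K)} (hF : Fib P A) : False := by
  obtain ⟨e₂⟩ := H96.Tall.Sp4.exists_pspEquiv (F := F)
  obtain ⟨e', S₀, hw, hS⟩ := H96.Tall.exists_equiv (e.trans e₂) P (H96.Tall.Sp4.isPGroup_uel (F := F))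
  have hS' : (S₀ : Subgroup _).map e'.symm.toMonoidHom = (P : Subgroup K) := by
    rw [← hS]
    exact H96.Tall.map_symm_map e' _
  have hR := (H96.Tall.Sp4.two S₀ hw).map e'.symm
  rw [hS'] at hR
  refine hF.kill_of_cent hR (t := e'.symm (H96.Tall.Sp4.t F)) ?_ ?_ ?_ ?_
  · intro h
    apply H96.Tall.Sp4.t_ne (F := F)
    rw [← e'.apply_symm_apply (H96.Tall.Sp4.t F), h, map_one]
  · rw [← hS']
    exact ⟨_, H96.Tall.Sp4.t_mem S₀ hw, rfl⟩
  · rintro _ ⟨g, hg, rfl⟩ s hs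
    rw [← hS'] at hs
    obtain ⟨s, hs, rfl⟩ := hs
    have h2 := (H96.Tall.Sp4.comm S₀ hw g hg s hs).map e'.symm
    rwa [map_mul, map_mul, map_inv] at h2
  · intro h
    apply H96.Tall.Sp4.not_norm S₀ hw
    have h2 := map_mono (f := e'.toMonoidHom) h
    rw [H96.Tall.map_map_symm] at h2
    refine h2.trans ((H96.Tall.normalizer_map e' _).trans ?_)
    rw [hS]

theorem deadR_psp4 : DeadR.{u} fun K _ => ∃ (F : Type) (_ : Field F) (_ : Fintype F) (k : ℕ), 2 ≤ k ∧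
    Fintype.card F = 2 ^ k ∧ Nonempty (K ≃* PSp 2 F) := by
  apply @deadR_of_fib
  rintro K _ _ hs hna P A hf ⟨F, _, _, k, hk, hF', ⟨e⟩⟩
  have : CharP F 2 := by
    obtain ⟨p, hp⟩ := CharP.exists F
    have hpp : p.Prime := (CharP.char_is_prime_or_zero F p).resolve_right (CharP.char_ne_zero_of_finite F p)
    have : Fact p.Prime := ⟨hpp⟩
    obtain ⟨n, -, hn'⟩ := FiniteField.card F p
    rw [hF'] at hn'
    have h2 : p ∣ 2 ^ k := by rw [hn']; exact dvd_pow_self p n.ne_zero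
    have h3 := (Nat.prime_dvd_prime_iff_eq hpp Nat.prime_two).1 (hpp.dvd_of_dvd_pow h2)
    rwa [← h3]
  exact hf.false_of_psp4 e

end Cfsg.Agent.H17.LT
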