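import Cfsg.Agent.H17.LT.Asm
import Cfsg.Agent.H96.Tall.Engine
import Cfsg.Agent.H22.Tall.A6
import Cfsg.Agent.H258.TF.W3

/-!
# S2927, layer L1: the rows `A₆` and `PSL₃(2^k)` for at least two components, as `DeadR`
-/

set_option autoImplicit false
set_option linter.unusedSectionVars false
open Cfsg Subgroup
open Cfsg.Agent.H229 Cfsg.Agent.H230 Cfsg.Agent.H252.LT

universe u v

namespace Cfsg.Agent.H17.LT

/-! ### `A₆` -/

section cfg

open Cfsg.Agent.H22.Tall (Cfg sup_norm)

variable {K : Type u} [Group K] [Finite K] {P : Sylow 2 K} {V₁ V₂ : Subgroup K} {z t₁ s₁ t₂ s₂ : K}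

theorem cfg_loc (c : Cfg (P : Subgroup K) V₁ V₂ z t₁ s₁ t₂ s₂) {X : Subgroup K} (hPX : (P : Subgroup K) ≤ X)
    (hX : pCoreOf 2 X ≠ ⊥) : X ≤ normalizer ((P : Subgroup K) : Set K) ∨ X ≤ normalizer (V₁ : Set K) ∨
      X ≤ normalizer (V₂ : Set K) := by
  have hp2 : Fact (Nat.Prime 2) := ⟨Nat.prime_two⟩
  have hRP : pCoreOf 2 X ≤ (P : Subgroup K) := pCoreOf_le_of_isSylowOf (isSylowOf_of_sylow P hPX)
  have hXR := le_norm_pCoreOf 2 X
  -- `V ≤ R ≤ P` with `|P : V| = 2`
  have key : ∀ {V : Subgroup K}, Nat.card V = 4 → V ≤ pCoreOf 2 X →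
      X ≤ normalizer ((P : Subgroup K) : Set K) ∨ X ≤ normalizer (V : Set K) := by
    intro V hV hVR
    have h8 : Nat.card ↥(pCoreOf 2 X) ∣ 8 := by
      rw [← c.cardS]
      exact card_dvd_of_le hRP
    have h4 : 4 ∣ Nat.card ↥(pCoreOf 2 X) := by
      rw [← hV]
      exact card_dvd_of_le hVR
    have h5 : Nat.card ↥(pCoreOf 2 X) = 4 ∨ Nat.card ↥(pCoreOf 2 X) = 8 := by
      obtain ⟨k, hk⟩ := h4
      have h6 := Nat.le_of_dvd (by norm_num) h8
      have h7 : 0 < Nat.card ↥(pCoreOf 2 X) := Nat.card_pos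
      rcases k with _ | _ | _ | k
      · omega
      · omega
      · omega
      · omega
    rcases h5 with h5 | h5
    · right
      have h6 : V = pCoreOf 2 X := eq_of_le_of_card_ge hVR (by rw [h5, hV])
      rw [h6]
      exact hXR
    · left
      have h6 : pCoreOf 2 X = P := eq_of_le_of_card_ge hRP (by rw [h5, c.cardS])
      rw [← h6]
      exact hXR
  rcases c.dichotomy hRP (hPX.trans hXR) hX with h | h | ⟨h3, h4⟩
  · rcases key c.h1.card h with h | h
    · exact Or.inl h
    · exact Or.inr (Or.inl h)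
  · rcases key c.h2.card h with h | h
    · exact Or.inl h
    · exact Or.inr (Or.inr h)
  · left
    have h5 : X ≤ centralizer ({z} : Set K) := by
      intro g hg
      rw [mem_centralizer_singleton_iff]
      have h6 := (mem_normalizer_iff.1 (hXR hg) z).1 h3
      rcases h4 _ h6 (by
        calc g * z * g⁻¹ * (g * z * g⁻¹) = g * (z * z) * g⁻¹ := by group
          _ = 1 := by rw [c.h1.sq z c.h1.zV]; group) with h7 | h7
      · exfalso
        rw [mul_inv_eq_one] at h7
        exact c.h1.z_ne (mul_eq_left.1 h7)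
      · exact mul_inv_eq_iff_eq_mul.1 h7
    rw [c.cz] at h5
    exact h5.trans le_normalizer

/-- **The configuration of helper22 is a `WPair`.** -/
theorem wpair_of_cfg (c : Cfg (P : Subgroup K) V₁ V₂ z t₁ s₁ t₂ s₂) : WPair (P : Subgroup K) V₁ V₂ where
  neA := c.V_ne
  neB := c.symm.V_ne
  PA := c.h1.n
  PB := c.h2.n
  coreA := c.O2_eq
  coreB := c.symm.O2_eq
  aut := by
    intro α hα
    exact c.aut_V (fun s hs => hα ▸ (⟨s, hs, rfl⟩ : α s ∈ (P : Subgroup K).map α.toMonoidHom))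
  loc := fun X h1 h2 => cfg_loc c h1 h2
  inf := by
    intro g hg
    have h1 := sup_norm (mem_inf.1 hg).1 (mem_inf.1 hg).2
    rwa [c.sup_eq] at h1
  gen := c.top (c.h1.n.trans le_sup_left) (mem_sup_left c.h1.tn) (mem_sup_right c.h2.tn)
  inv := by
    intro X F hPX hXP _ hF hXF f hf hf1 _
    -- `V₁ ⊓ V₂ ≤ {1, z}`
    have h1 : ∀ f ∈ V₁ ⊓ V₂, f ≠ 1 → f = z := by
      intro f hf hf1
      by_contra hfz
      have h2 : V₁ ≤ V₂ := c.h1.le_of_mem (c.sz c.h1.sS) c.h2.n (mem_inf.1 hf).1 (mem_inf.1 hf).2 hf1 hfz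
      exact c.ne (eq_of_le_of_card_ge h2 (by rw [c.h1.card, c.h2.card]))
    have hfz := h1 f (hF hf) hf1
    apply hXP
    refine le_trans ?_ (le_normalizer)
    rw [← c.cz]
    intro g hg
    rw [mem_centralizer_singleton_iff]
    rw [hfz] at hf hf1
    have h3 := (mem_normalizer_iff.1 (hXF hg) z).1 hf
    have h4 := h1 _ (hF h3) (fun h => hf1 (conj_eq_one_iff.1 h))
    exact mul_inv_eq_iff_eq_mul.1 h4

end cfg

theorem rowW_A6 {K : Type u} [Group K] [Finite K] (e : K ≃* ↥(alternatingGroup (Fin 6))) : RowW K := by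
  have hp2 : Fact (Nat.Prime 2) := ⟨Nat.prime_two⟩
  let P : Sylow 2 K := default
  obtain ⟨V₁, V₂, z, t₁, s₁, t₂, s₂, c⟩ := H22.Tall.exists_cfg e P
  exact ⟨P, V₁, V₂, wpair_of_cfg c⟩

/-- **`A₆`** -/
theorem deadR_A6 : DeadR.{u} fun K _ => Nonempty (K ≃* ↥(alternatingGroup (Fin 6))) := by
  intro G _ _ S Q M K t ⟨e⟩
  exact deadR_rowW t (rowW_A6 e)

/-! ### Transport of `WPair` -/

section tr

variable {K : Type u} {K' : Type v} [Group K] [Group K']

theorem norm_map (e : K ≃* K') (H : Subgroup K) :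
    normalizer ((H.map e.toMonoidHom : Subgroup K') : Set K') = (normalizer (H : Set K)).map e.toMonoidHom :=
  (Subgroup.map_equiv_normalizer_eq H e).symm

theorem core_map (e : K ≃* K') (L : Subgroup K) :
    pCoreOf 2 (L.map e.toMonoidHom) = (pCoreOf 2 L).map e.toMonoidHom := H96.Tall.O2_map K' e L

theorem map_le_map_iff (e : K ≃* K') {L M : Subgroup K} :
    L.map e.toMonoidHom ≤ M.map e.toMonoidHom ↔ L ≤ M := H96.Tall.map_le_map_iff' e L M

/-- **Transport of `WPair`.** -/
theorem WPair.map {P A B : Subgroup K} (w : WPair P A B) (e : K ≃* K') :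
    WPair (P.map e.toMonoidHom) (A.map e.toMonoidHom) (B.map e.toMonoidHom) where
  neA := fun h => w.neA ((Subgroup.map_eq_bot_iff_of_injective _ e.injective).1 h)
  neB := fun h => w.neB ((Subgroup.map_eq_bot_iff_of_injective _ e.injective).1 h)
  PA := by rw [norm_map]; exact map_mono w.PA
  PB := by rw [norm_map]; exact map_mono w.PB
  coreA := by rw [norm_map, core_map, w.coreA]
  coreB := by rw [norm_map, core_map, w.coreB]
  aut := by
    intro α hα
    let β : MulAut K := (e.trans α).trans e.symm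
    have key : ∀ H : Subgroup K, (H.map e.toMonoidHom).map α.toMonoidHom = (H.map β.toMonoidHom).map e.toMonoidHom := by
      intro H
      rw [map_map, map_map]
      congr 1
      ext x
      show α (e x) = e (e.symm (α (e x)))
      rw [e.apply_symm_apply]
    have hinj := Subgroup.map_injective (f := e.toMonoidHom) e.injective
    rw [key] at hα
    rw [key, key]
    rcases w.aut β (hinj hα) with ⟨h1, h2⟩ | ⟨h1, h2⟩
    · exact Or.inl ⟨by rw [h1], by rw [h2]⟩
    · exact Or.inr ⟨by rw [h1], by rw [h2]⟩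
  loc := by
    intro X hPX hX
    obtain ⟨Y, rfl⟩ : ∃ Y : Subgroup K, Y.map e.toMonoidHom = X := ⟨X.map e.symm.toMonoidHom, H96.Tall.map_map_symm e X⟩
    rw [core_map] at hX
    rw [norm_map, norm_map, norm_map, map_le_map_iff, map_le_map_iff, map_le_map_iff]
    exact w.loc Y ((map_le_map_iff e).1 hPX) (fun h => hX (by rw [h, Subgroup.map_bot]))
  inf := by
    rw [norm_map, norm_map, norm_map, ← Subgroup.map_inf _ _ _ e.injective]
    exact map_mono w.inf
  gen := by
    rw [norm_map, norm_map, ← Subgroup.map_sup, w.gen]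
    exact Subgroup.map_top_of_surjective _ e.surjective
  inv := by
    intro X F hPX hXP hXAB hF hXF f hf hf1 hp
    obtain ⟨Y, rfl⟩ : ∃ Y : Subgroup K, Y.map e.toMonoidHom = X := ⟨X.map e.symm.toMonoidHom, H96.Tall.map_map_symm e X⟩
    obtain ⟨E, rfl⟩ : ∃ E : Subgroup K, E.map e.toMonoidHom = F := ⟨F.map e.symm.toMonoidHom, H96.Tall.map_map_symm e F⟩
    obtain ⟨f, hf', rfl⟩ := hf
    rw [norm_map, map_le_map_iff] at hXP hXF
    rw [norm_map, norm_map, map_le_map_iff, map_le_map_iff] at hXAB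
    rw [← Subgroup.map_inf _ _ _ e.injective, map_le_map_iff] at hF
    refine w.inv Y E ((map_le_map_iff e).1 hPX) hXP hXAB hF hXF f hf' (fun h => hf1 ?_) ?_
    · rw [h]; exact map_one e
    · have h1 : (centralizer ({f} : Set K)).map e.toMonoidHom ≤ centralizer ({e.toMonoidHom f} : Set K') := by
        rintro _ ⟨x, hx, rfl⟩
        rw [mem_centralizer_singleton_iff]
        show e x * e f = e f * e x
        rw [← map_mul, ← map_mul, mem_centralizer_singleton_iff.1 hx]
      have h2 := (hp.to_le h1).map e.symm.toMonoidHom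
      rwa [H96.Tall.map_symm_map] at h2

theorem RowW.of_equiv [Finite K] (h : RowW K') (e : K ≃* K') : RowW K := by
  have hp2 : Fact (Nat.Prime 2) := ⟨Nat.prime_two⟩
  have : Finite K' := Finite.of_equiv _ e.toEquiv
  obtain ⟨P, A, B, w⟩ := h
  exact ⟨P.mapSurjective (f := e.symm.toMonoidHom) e.symm.surjective, _, _, w.map e.symm⟩

end tr

/-- **`PSL₃(2^k)`** -/
theorem deadR_psl3 : DeadR.{u} fun K _ => ∃ (F : Type) (_ : Field F) (_ : Fintype F) (_ : CharP F 2),
    Nonempty (K ≃* Matrix.ProjectiveSpecialLinearGroup (Fin 3) F) := by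
  intro G _ _ S Q M K t ⟨F, _, _, _, ⟨e⟩⟩
  exact deadR_rowW t ((H258.W3.rowW_psl3 (F := F)).of_equiv e)

end Cfsg.Agent.H17.LT
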