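import Cfsg.Agent.H17.LT.W

/-!
# S2927, layer L1: `deadR_rowW`
-/

set_option autoImplicit false
set_option linter.unusedSectionVars false
open Cfsg Subgroup
open Cfsg.Agent.H229 Cfsg.Agent.H230 Cfsg.Agent.H252.LT
open Cfsg.Agent.SignalizersComponents.Components

universe u

namespace Cfsg.Agent.H17.LT

variable {G : Type u} [Group G] [Finite G] {S : Sylow 2 G} {Q M K A B : Subgroup G}

theorem norm_layer (g : G) : g ∈ normalizer (layer G : Set G) := by
  rw [Subgroup.normalizer_eq_top_iff.2 (layer_normal G)]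
  exact mem_top g

/-- a `Q`-invariant subgroup of the layer with trivial projection is trivial -/
theorem Two.eq_bot_of_pr (t : Two S Q M K) {R : Subgroup G} (hR : R ≤ layer G) (hQ : Q ≤ normalizer (R : Set G))
    (h : pr K R = ⊥) : R = ⊥ := by
  have hRK : R ≤ normalizer (K : Set G) := hR.trans (layer_le_norm t)
  have h2 : R ≤ centralizer (K : Set G) := by
    intro r hr
    obtain ⟨k, hk, c, hc, hrc⟩ := layer_decomp t.comp (hR hr)
    have h3 : k ∈ pr K R := decomp_mem_pr hRK hk hc (by rw [← hrc]; exact hr)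
    rw [h, mem_bot] at h3
    rw [hrc, h3, one_mul]
    exact hc
  rw [eq_bot_iff, ← t.cent]
  intro r hr
  apply mem_centralizer_layer
  intro i x hx
  obtain ⟨q, hq, hqi⟩ := t.trans i.1 i.2
  have h4 : q⁻¹ * r * q ∈ R := by
    have := (mem_normalizer_iff.1 (inv_mem (hQ hq)) r).1 hr
    simpa using this
  have h5 : q⁻¹ * x * q ∈ K := by
    rw [← hqi, mem_cj] at hx
    exact hx
  have h6 := mem_centralizer_iff.1 (h2 h4) _ h5
  calc x * r = q * ((q⁻¹ * x * q) * (q⁻¹ * r * q)) * q⁻¹ := by group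
    _ = q * ((q⁻¹ * r * q) * (q⁻¹ * x * q)) * q⁻¹ := by rw [h6]
    _ = r * x := by group

/-- the product of the `S`-conjugates of `A` -/
def aa (S : Sylow 2 G) (A : Subgroup G) : Subgroup G := ⨆ s : ↥(S : Subgroup G), cj (s : G) A

theorem cj_le_aa {s : G} (hs : s ∈ (S : Subgroup G)) (A : Subgroup G) : cj s A ≤ aa S A :=
  le_iSup (fun s : ↥(S : Subgroup G) => cj (s : G) A) ⟨s, hs⟩

theorem le_aa (A : Subgroup G) : A ≤ aa S A := by
  have := cj_le_aa (S := S) (one_mem _) A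
  rwa [cj_one] at this

theorem cj_aa_le {g : G} {H : Subgroup G} (h : ∀ s ∈ (S : Subgroup G), cj g (cj s A) ≤ H) : cj g (aa S A) ≤ H := by
  show (⨆ s : ↥(S : Subgroup G), cj (s : G) A).map _ ≤ _
  rw [Subgroup.map_iSup]
  exact iSup_le fun s => h s s.2

theorem aa_le {H : Subgroup G} (h : ∀ s ∈ (S : Subgroup G), cj s A ≤ H) : aa S A ≤ H := iSup_le fun s => h s s.2

theorem mem_norm_aa {g : G} (h : ∀ s ∈ (S : Subgroup G), cj g (cj s A) ≤ aa S A) : g ∈ normalizer (aa S A : Set G) :=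
  mem_norm.2 (cj_eq_of_le (cj_aa_le h))

theorem S_le_norm_aa : (S : Subgroup G) ≤ normalizer (aa S A : Set G) := by
  intro g hg
  refine mem_norm_aa fun s hs => ?_
  rw [← cj_mul]
  exact cj_le_aa (mul_mem hg hs) A

namespace WG

theorem A_le (t : Two S Q M K) (w : WG K ((S : Subgroup G) ⊓ K) A B) : A ≤ (S : Subgroup G) ⊓ K := by
  have h1 : IsSylowOf 2 ((S : Subgroup G) ⊓ K) (K ⊓ normalizer (A : Set G)) :=
    (sylow_comp S t.comp).of_le inf_le_left (le_inf inf_le_right w.PA)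
  have h2 := pCoreOf_le_of_isSylowOf h1
  rwa [w.coreA] at h2

theorem aa_le_S (t : Two S Q M K) (w : WG K ((S : Subgroup G) ⊓ K) A B) : aa S A ≤ (S : Subgroup G) := by
  refine aa_le fun s hs => ?_
  have h1 : cj s (S : Subgroup G) = S := cj_mem_self hs
  rw [← h1]
  exact cj_mono ((w.A_le t).trans inf_le_left)

variable (t : Two S Q M K) (w : WG K ((S : Subgroup G) ⊓ K) A B)
  (hns : ∀ s ∈ (S : Subgroup G), s ∈ normalizer (K : Set G) → cj s A = A)

include t w hns

theorem cj_or {s : G} (hs : s ∈ (S : Subgroup G)) : cj s A = A ∨ cj s A ≤ centralizer (K : Set G) := by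
  by_cases h : cj s K = K
  · exact Or.inl (hns s hs (mem_norm.2 h))
  · right
    exact (cj_mono w.AK).trans (component_le_centralizer_of_ne (isComponent_cj t.comp s) t.comp h)

theorem norm_le_norm_aa : K ⊓ normalizer (A : Set G) ≤ normalizer (aa S A : Set G) := by
  rintro x ⟨hxK, hxA⟩
  refine mem_norm_aa fun s hs => ?_
  rcases w.cj_or t hns hs with h | h
  · rw [h]
    exact (cj_le_of_norm hxA).trans (le_aa A)
  · have h1 : x ∈ centralizer (cj s A : Set G) := by
      rw [mem_centralizer_iff]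
      intro y hy
      exact (mem_centralizer_iff.1 (h hy) x hxK).symm
    exact (cj_le_of_norm (centralizer_le_norm _ h1)).trans (cj_le_aa hs A)

theorem aa_inf_le : aa S A ⊓ K ≤ A := by
  rintro x ⟨hx, hxK⟩
  have h1 : aa S A ≤ A ⊔ centralizer (K : Set G) := by
    refine aa_le fun s hs => ?_
    rcases w.cj_or t hns hs with h | h
    · rw [h]; exact le_sup_left
    · exact h.trans le_sup_right
  have h2 : x ∈ pr K A := ⟨h1 hx, hxK⟩
  obtain ⟨-, a, ha, c, hc, hac⟩ := (mem_pr (w.AK.trans le_normalizer)).1 h2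
  have h3 : c ∈ K ⊓ centralizer (K : Set G) := by
    refine ⟨?_, hc⟩
    have : c = a⁻¹ * x := by rw [hac]; group
    rw [this]
    exact mul_mem (K.inv_mem (w.AK ha)) hxK
  rw [t.inf_cent, mem_bot] at h3
  rw [hac, h3, mul_one]
  exact ha

/-- the projection of `O₂(N(aa)) ∩ E(G)` lies in `A` -/
theorem pr_core_le : pr K (pCoreOf 2 (normalizer (aa S A : Set G)) ⊓ layer G) ≤ A := by
  have : Fact (Nat.Prime 2) := ⟨Nat.prime_two⟩
  set L := normalizer (aa S A : Set G) with hL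
  set R := pCoreOf 2 L ⊓ layer G with hR
  have hRK : R ≤ normalizer (K : Set G) := inf_le_right.trans (layer_le_norm t)
  have h1 : IsPGroup 2 ↥(pr K R) :=
    isPGroup_pr t.inf_cent hRK (isPGroup_mono inf_le_left (H229.isPGroup_pCoreOf 2 L))
  have h2 : pr K R ≤ K ⊓ normalizer (A : Set G) := by
    refine le_inf (pr_le _ _) ?_
    intro x hx
    obtain ⟨hxK, r, hr, c, hc, hrc⟩ := (mem_pr hRK).1 hx
    refine mem_norm.2 (cj_eq_of_le ?_)
    rintro _ ⟨y, hy, rfl⟩
    apply w.aa_inf_le t hns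
    have hcy : c * y * c⁻¹ = y := by
      have := mem_centralizer_iff.1 hc y (w.AK hy)
      calc c * y * c⁻¹ = (y * c) * c⁻¹ := by rw [this]
        _ = y := by group
    refine ⟨?_, mul_mem (mul_mem hxK (w.AK hy)) (K.inv_mem hxK)⟩
    show x * y * x⁻¹ ∈ aa S A
    have e : x * y * x⁻¹ = r * (c * y * c⁻¹) * r⁻¹ := by rw [hrc]; group
    rw [e, hcy]
    have h3 : r ∈ L := pCoreOf_le 2 L hr.1
    exact (mem_normalizer_iff.1 h3 y).1 (le_aa A hy)
  have h3 : K ⊓ normalizer (A : Set G) ≤ normalizer (pr K R : Set G) := by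
    intro x hx
    have hxL : x ∈ L := w.norm_le_norm_aa t hns hx
    refine norm_inf_le _ _ ⟨norm_sup_le _ _ ⟨norm_inf_le _ _ ⟨le_norm_pCoreOf 2 L hxL, norm_layer x⟩, ?_⟩,
      le_normalizer hx.1⟩
    exact norm_le_norm_centralizer _ (le_normalizer hx.1)
  have h4 := H229.le_pCoreOf h2 h3 h1
  rwa [w.coreA] at h4

/-- `Y ≤ O₂(N(aa))`, so the projection of `Y ∩ E(G)` lies in `A` -/
theorem pr_Y_le : pr K (largestPReducedOf 2 M ⊓ layer G) ≤ A := by
  refine le_trans (pr_mono (inf_le_inf_right _ ?_)) (w.pr_core_le t hns)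
  apply t.cx.Y_le_of_S S_le_norm_aa
  intro h
  apply w.neA
  rw [eq_bot_iff, ← h]
  refine (le_aa (S := S) A).trans ?_
  exact H229.le_pCoreOf le_normalizer le_rfl (isPGroup_mono (w.aa_le_S t) S.2)

omit hns in
/-- `M` permutes the conjugates of `A` -/
theorem M_le_norm_aa (hns' : ∀ s ∈ (S : Subgroup G), s ∈ normalizer (K : Set G) → cj s A = A ∧ cj s B = B)
    (hAB : A ≠ B)
    (hX : pr K (M ⊓ layer G) ≤ normalizer (((S : Subgroup G) ⊓ K : Subgroup G) : Set G)) :
    M ≤ normalizer (aa S A : Set G) := by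
  have : Fact (Nat.Prime 2) := ⟨Nat.prime_two⟩
  have hSM := t.cx.st.SM
  -- `N_M(K)` fixes or swaps
  have hfs : ∀ m ∈ M, m ∈ normalizer (K : Set G) → (cj m A = A ∧ cj m B = B) ∨ (cj m A = B ∧ cj m B = A) := by
    intro m hm hmK
    apply w.aut m hmK
    have h1 := t.perm hSM hX hm t.comp
    rwa [mem_norm.1 hmK] at h1
  set H := M ⊓ normalizer (K : Set G) with hH
  -- `S ∩ N(K)` is a Sylow 2-subgroup of `H`
  have hSyl : IsSylowOf 2 ((S : Subgroup G) ⊓ normalizer (K : Set G)) H := by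
    rw [isSylowOf_iff_maximal]
    refine ⟨inf_le_inf_right _ hSM, isPGroup_mono inf_le_left S.2, ?_⟩
    intro R hRH hR hSR
    obtain ⟨T, hT, hRT⟩ := exists_isSylowOf_ge (hRH.trans inf_le_left) hR
    obtain ⟨x, hx, hxT⟩ := (isSylowOf_of_sylow S hSM).exists_conj hT
    -- `x = n s⁻¹`
    obtain ⟨s, hs, hsK⟩ := t.trans _ (isComponent_cj t.comp x⁻¹)
    have hn : cj (x * s) K = K := by rw [cj_mul, hsK, cj_cj_inv]
    have h1 : R ≤ cj (x * s) ((S : Subgroup G) ⊓ normalizer (K : Set G)) := by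
      rw [cj_inf, cj_normalizer, hn, cj_mul, cj_mem_self (t.cx.st.QS hs)]
      exact le_inf (hRT.trans (le_of_eq hxT.symm)) (hRH.trans inf_le_right)
    exact eq_of_cj_le (cj_le_iff.2 (by rw [inv_inv]; exact h1)) hSR
  -- no element of `H` swaps
  have hno : ∀ m ∈ H, cj m A = A := by
    intro m hm
    rcases hfs m hm.1 hm.2 with h | h
    · exact h.1
    exfalso
    obtain ⟨k, n, hk, hmn⟩ : ∃ k n : ℕ, Odd k ∧ (m ^ k) ^ 2 ^ n = 1 := by
      obtain ⟨n, k, hk, hkn⟩ := Nat.exists_eq_two_pow_mul_odd (n := orderOf m) (orderOf_pos m).ne'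
      refine ⟨k, n, hk, ?_⟩
      rw [← pow_mul, mul_comm, ← hkn, pow_orderOf_eq_one]
    have hsw : ∀ j : ℕ, cj (m ^ (2 * j + 1)) A = B ∧ cj (m ^ (2 * j + 1)) B = A := by
      intro j
      induction j with
      | zero => simpa using h
      | succ j ih =>
        have e : m ^ (2 * (j + 1) + 1) = m ^ (2 * j + 1) * (m * m) := by
          rw [← pow_two, ← pow_add]; congr 1
        rw [e, cj_mul, cj_mul, cj_mul, cj_mul, h.1, h.2, h.1]
        exact ih
    obtain ⟨j, rfl⟩ := hk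
    set y := m ^ (2 * j + 1) with hy
    have hyH : y ∈ H := pow_mem hm _
    have hyp : IsPGroup 2 ↥(zpowers y) := by
      intro ⟨z, k, hz⟩
      refine ⟨n, Subtype.ext ?_⟩
      have hz' : z = y ^ k := hz.symm
      show z ^ 2 ^ n = 1
      rw [hz', ← zpow_natCast, ← zpow_mul, mul_comm, zpow_mul, zpow_natCast, hmn, one_zpow]
    obtain ⟨T, hT, hyT⟩ := exists_isSylowOf_ge (show zpowers y ≤ H by rw [zpowers_le]; exact hyH) hyp
    obtain ⟨x, hx, hxT⟩ := hSyl.exists_conj hT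
    have h1 : x⁻¹ * y * x ∈ (S : Subgroup G) ⊓ normalizer (K : Set G) := by
      have h2 : y ∈ cj x ((S : Subgroup G) ⊓ normalizer (K : Set G)) := by
        have h3 : cj x ((S : Subgroup G) ⊓ normalizer (K : Set G)) = T := hxT
        rw [h3]
        exact hyT (mem_zpowers y)
      rwa [mem_cj] at h2
    have h2 := hns' _ h1.1 h1.2
    have hy1 := hsw j
    rcases hfs x hx.1 hx.2 with h3 | h3
    · have h4 : cj x⁻¹ B = B := by rw [← h3.2, cj_inv_cj, h3.2]
      have h5 := h2.1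
      rw [cj_mul, cj_mul, h3.1, hy1.1, h4] at h5
      exact hAB h5.symm
    · have h4 : cj x⁻¹ A = B := by rw [← h3.2, cj_inv_cj]
      have h5 := h2.1
      rw [cj_mul, cj_mul, h3.1, hy1.2, h4] at h5
      exact hAB h5.symm
  intro m hm
  refine mem_norm_aa fun s hs => ?_
  rw [← cj_mul]
  obtain ⟨q, hq, hqK⟩ := t.trans _ (isComponent_cj t.comp (m * s))
  have h1 : q⁻¹ * (m * s) ∈ H := by
    refine ⟨mul_mem (M.inv_mem (hSM (t.cx.st.QS hq))) (mul_mem hm (hSM hs)), mem_norm.2 ?_⟩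
    rw [cj_mul, ← hqK, cj_inv_cj]
  have h2 := hno _ h1
  have e : m * s = q * (q⁻¹ * (m * s)) := by group
  rw [e, cj_mul, h2]
  exact cj_le_aa (t.cx.st.QS hq) A

end WG

theorem Two.Y_ne (t : Two S Q M K) : largestPReducedOf 2 M ⊓ layer G ≠ ⊥ := by
  have h2 : 2 ∣ Nat.card (layer G) := by
    have hs := t.simple
    exact (Cx.two_dvd_of_simple t.nab).trans (card_dvd_of_le (component_le_layer t.comp))
  have hn := layer_normal G
  obtain ⟨z, hzl, hz, hz2, hz1⟩ := Cx.exists_central S (layer G) h2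
  intro h
  have h1 : z ∈ largestPReducedOf 2 M ⊓ layer G := ⟨t.cx.center_mem_Y hz hz2, hzl⟩
  rw [h, mem_bot] at h1
  exact hz1 h1

/-- **The situation `WG` is impossible.** -/
theorem Two.false_of_wg (t : Two S Q M K) (w : WG K ((S : Subgroup G) ⊓ K) A B) : False := by
  have : Fact (Nat.Prime 2) := ⟨Nat.prime_two⟩
  have hSM := t.cx.st.SM
  have hSK : ∀ s ∈ (S : Subgroup G), s ∈ normalizer (K : Set G) →
      cj s ((S : Subgroup G) ⊓ K) = (S : Subgroup G) ⊓ K := by
    intro s hs hsK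
    rw [cj_inf, cj_mem_self hs, mem_norm.1 hsK]
  by_cases hsw : ∃ s ∈ (S : Subgroup G), s ∈ normalizer (K : Set G) ∧ cj s A = B
  · -- `S` swaps `A` and `B`
    obtain ⟨s, hs, hsK, hsA⟩ := hsw
    have hsB : cj s B = A := by
      rcases w.aut s hsK (hSK s hs hsK) with h | h
      · have : A = B := h.1.symm.trans hsA
        rw [← this]; exact h.1
      · exact h.2
    obtain ⟨X, hXK, hPX, hSX, hc, hX⟩ := t.loc
    have hsX : cj s X = X := mem_norm.1 (hSX ⟨hs, hsK⟩)
    apply hX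
    rcases w.loc X hXK hPX hc with h | h | h
    · exact h
    · have h1 : X ≤ normalizer (B : Set G) := by
        rw [← hsX, ← hsA, ← cj_normalizer]; exact cj_mono h
      exact (le_inf (le_inf hXK h) h1).trans w.inf
    · have h1 : X ≤ normalizer (A : Set G) := by
        rw [← hsX, ← hsB, ← cj_normalizer]; exact cj_mono h
      exact (le_inf (le_inf hXK h1) h).trans w.inf
  -- no swap
  push Not at hsw
  have hAB : A ≠ B := by
    have := hsw 1 (one_mem _) (one_mem _)
    rwa [cj_one] at this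
  have hns' : ∀ s ∈ (S : Subgroup G), s ∈ normalizer (K : Set G) → cj s A = A ∧ cj s B = B := by
    intro s hs hsK
    rcases w.aut s hsK (hSK s hs hsK) with h | h
    · exact h
    · exact absurd h.1 (hsw s hs hsK)
  have hFA := w.pr_Y_le t (fun s hs hsK => (hns' s hs hsK).1)
  have hFB := w.symm.pr_Y_le t (fun s hs hsK => (hns' s hs hsK).2)
  set Y := largestPReducedOf 2 M with hY
  set F := pr K (Y ⊓ layer G) with hF
  have hMl : M ⊓ layer G ≤ normalizer ((Y ⊓ layer G : Subgroup G) : Set G) := fun g hg =>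
    norm_inf_le _ _ ⟨t.cx.M_norm_Y hg.1, norm_layer g⟩
  have hQY : Q ≤ normalizer ((Y ⊓ layer G : Subgroup G) : Set G) := fun g hg =>
    norm_inf_le _ _ ⟨t.cx.M_norm_Y (hSM (t.cx.st.QS hg)), norm_layer g⟩
  have hF1 : F ≠ ⊥ := fun h => t.Y_ne (t.eq_bot_of_pr inf_le_right hQY h)
  have hXP : pr K (M ⊓ layer G) ≤ normalizer (((S : Subgroup G) ⊓ K : Subgroup G) : Set G) := by
    by_contra hX
    have hPX : (S : Subgroup G) ⊓ K ≤ pr K (M ⊓ layer G) :=
      (le_inf (le_inf (inf_le_left.trans hSM) (inf_le_right.trans (component_le_layer t.comp))) inf_le_right).trans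
        (inf_le_pr K _)
    have hc := t.core_pr hSM t.cx.st.core_ne_bot
    have hAB' := (w.loc _ (pr_le _ _) hPX hc).resolve_left hX
    have hXF : pr K (M ⊓ layer G) ≤ normalizer (F : Set G) :=
      pr_le_norm (inf_le_right.trans (layer_le_norm t)) hMl
    -- a fixed element in `F`
    have hFp : IsPGroup 2 ↥F := isPGroup_mono (hFA.trans ((w.A_le t).trans inf_le_left)) S.2
    have hN : (S : Subgroup G) ⊓ normalizer (K : Set G) ≤ normalizer (F : Set G) := by
      rintro g ⟨hg, hgK⟩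
      refine norm_inf_le _ _ ⟨norm_sup_le _ _ ⟨norm_inf_le _ _ ⟨t.cx.M_norm_Y (hSM hg), norm_layer g⟩, ?_⟩, hgK⟩
      exact norm_le_norm_centralizer _ hgK
    have h1 := PLocal.OffenderStep.inf_centralizer_ne_bot F ((S : Subgroup G) ⊓ normalizer (K : Set G)) hFp
      (isPGroup_mono inf_le_left S.2) hN hF1
    obtain ⟨f, hf1⟩ := Subgroup.ne_bot_iff_exists_ne_one.1 h1
    have hf1' : (f : G) ≠ 1 := fun h => hf1 (Subtype.ext h)
    refine w.inv _ F (pr_le _ _) hPX hX hAB' (le_inf hFA hFB) hXF f f.2.1 hf1' ?_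
    refine t.fix (pr_le _ _ f.2.1) hf1' ?_
    intro q hq hqK
    exact mem_centralizer_iff.1 f.2.2 q ⟨t.cx.st.QS hq, mem_norm.2 hqK⟩
  have hMA := w.M_le_norm_aa t hns' hAB hXP
  have hMB := w.symm.M_le_norm_aa t (fun s hs hsK => ⟨(hns' s hs hsK).2, (hns' s hs hsK).1⟩) hAB.symm hXP
  have hNY : ∀ A B : Subgroup G, WG K ((S : Subgroup G) ⊓ K) A B →
      (∀ s ∈ (S : Subgroup G), s ∈ normalizer (K : Set G) → cj s A = A) → M ≤ normalizer (aa S A : Set G) →
      K ⊓ normalizer (A : Set G) ≤ normalizer (Y : Set G) := by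
    intro A B w hA hM
    refine (w.norm_le_norm_aa t hA).trans (le_trans ?_ Setup.dag_le_norm)
    refine t.cx.st.le_dag_of_normal hM le_normalizer le_rfl (isPGroup_mono (w.aa_le_S t) S.2) ?_
    intro h
    apply w.neA
    rw [eq_bot_iff, ← h]
    exact le_aa A
  have hKY : K ≤ normalizer (Y : Set G) :=
    w.gen.trans (sup_le (hNY A B w (fun s hs hsK => (hns' s hs hsK).1) hMA)
      (hNY B A w.symm (fun s hs hsK => (hns' s hs hsK).2) hMB))
  -- `K` centralizes `Y`
  have hYp : IsPGroup 2 ↥Y := ea_isPGroup t.cx.Y_ea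
  have hnil : Group.IsNilpotent ↥Y := hYp.isNilpotent
  have hsol : Group.IsSolvable ↥Y := inferInstance
  have h1 := component_commutator_solvable t.comp hKY hsol
  have h2 : K ≤ centralizer (Y : Set G) := by rwa [← Subgroup.commutator_eq_bot_iff_le_centralizer]
  apply hF1
  rw [eq_bot_iff, ← t.inf_cent]
  intro x hx
  obtain ⟨hxK, y, hy, c, hc, hyc⟩ := (mem_pr ((inf_le_right.trans (layer_le_norm t)) : Y ⊓ layer G ≤ _)).1 hx
  refine ⟨hxK, ?_⟩
  rw [hyc]
  exact mul_mem ((le_centralizer_comm h2) hy.1) hc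

/-- **RowW kills.** -/
theorem deadR_rowW : DeadR.{u} fun K _ => RowW K := by
  intro G _ _ S Q M K t hR
  have : Fact (Nat.Prime 2) := ⟨Nat.prime_two⟩
  obtain ⟨P₀, A, B, w⟩ := hR
  obtain ⟨P, hP, -⟩ := t.fib
  obtain ⟨g, hg⟩ := MulAction.exists_smul_eq ↥K P₀ P
  have w1 := (wg_of_wpair w).conj_of (g := (g : G)) g.2
  have h1 : cj (g : G) ((P₀ : Subgroup ↥K).map K.subtype) = (S : Subgroup G) ⊓ K := by
    have h2 : (P : Subgroup ↥K).map K.subtype = (S : Subgroup G) ⊓ K := by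
      rw [hP, Subgroup.subgroupOf_map_subtype, inf_assoc, inf_idem]
    rw [← h2, ← hg]
    show ((P₀ : Subgroup ↥K).map K.subtype).map _ = ((P₀ : Subgroup ↥K).map (MulAut.conj g).toMonoidHom).map K.subtype
    rw [Subgroup.map_map, Subgroup.map_map]
    rfl
  rw [h1] at w1
  exact t.false_of_wg w1

end Cfsg.Agent.H17.LT
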